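import Mathlib.RingTheory.Ideal.Maps
import Mathlib.RingTheory.Regular.RegularSequence
import Mathlib.RingTheory.RingHom.Flat
import Mathlib.RingTheory.Flat.Basic
import Mathlib.Tactic

/-! # Flat lifts of ideals along the powers of an element -/

set_option autoImplicit false

universe u v

namespace Groth.L11.EmbLift

open Ideal (span)

variable {B Z : Type u} [CommRing B] [CommRing Z] (π : B) (red : B →+* Z)

/-- An ideal of level `n` over the kernel of `red`. -/
structure Lev (n : ℕ) (J : Ideal B) : Prop where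
  pow_mem : π ^ (n + 1) ∈ J
  sup_eq : J ⊔ span {π} = RingHom.ker red
  flat : ∀ b, π * b ∈ J → b ∈ J ⊔ span {π ^ n}

variable {π red} {n : ℕ} {J J' J'' J''' : Ideal B}

theorem Lev.le (h : Lev π red n J) : J ≤ RingHom.ker red := h.sup_eq ▸ le_sup_left

theorem Lev.red_eq_zero (h : Lev π red n J) {b : B} (hb : b ∈ J) : red b = 0 := h.le hb

theorem Lev.red_pi (h : Lev π red n J) : red π = 0 :=
  (h.sup_eq ▸ (le_sup_right : span {π} ≤ J ⊔ span {π}) : span {π} ≤ RingHom.ker red) (Ideal.mem_span_singleton_self π)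

theorem Lev.of_mul_pow_mem (h : Lev π red n J) :
    ∀ i, i ≤ n + 1 → ∀ b, π ^ i * b ∈ J → b ∈ J ⊔ span {π ^ (n + 1 - i)} := by
  intro i
  induction i with
  | zero => exact fun _ b hb => Submodule.mem_sup_left (by simpa using hb)
  | succ i ih =>
    intro hi b hb
    have h1 := ih (Nat.le_of_succ_le hi) (π * b) (by rwa [← mul_assoc, ← pow_succ])
    obtain ⟨j, hj, y, hy, he⟩ := Submodule.mem_sup.1 h1
    obtain ⟨c, rfl⟩ := Ideal.mem_span_singleton'.1 hy
    obtain ⟨m, hm⟩ : ∃ m, n + 1 - i = m + 1 := ⟨n - i, by omega⟩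
    rw [hm, pow_succ] at he
    have h2 : π * (b - c * π ^ m) ∈ J := by
      have : π * (b - c * π ^ m) = j := by linear_combination -he
      rwa [this]
    have hm' : n + 1 - (i + 1) = m := by omega
    rw [hm']
    obtain ⟨j', hj', y', hy', he'⟩ := Submodule.mem_sup.1 (h.flat _ h2)
    have hle : span {π ^ n} ≤ span {π ^ m} := by
      rw [Ideal.span_singleton_le_span_singleton]
      exact pow_dvd_pow π (by omega)
    have e : b = j' + (y' + c * π ^ m) := by linear_combination -he'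
    rw [e]
    exact Submodule.add_mem_sup hj' (add_mem (hle hy') (Ideal.mem_span_singleton'.2 ⟨c, rfl⟩))

theorem Lev.red_of_top (h : Lev π red n J) {a : B} (ha : π ^ n * a ∈ J) : red a = 0 := by
  have h1 := h.of_mul_pow_mem n (Nat.le_succ n) a ha
  rw [show n + 1 - n = 1 by omega, pow_one, h.sup_eq] at h1
  exact h1

variable (π red) in
/-- A linear form on the kernel which kills `π`. -/
structure IsForm (φ : B → Z) : Prop where
  add : ∀ f g, red f = 0 → red g = 0 → φ (f + g) = φ f + φ g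
  smul : ∀ b f, red f = 0 → φ (b * f) = red b * φ f
  pi : ∀ b, φ (π * b) = 0

theorem IsForm.sub {φ : B → Z} (h : IsForm π red φ) {f g : B} (hf : red f = 0) (hg : red g = 0) :
    φ (f - g) = φ f - φ g := by
  have h1 := h.add (f - g) g (by rw [map_sub, hf, hg, sub_zero]) hg
  rw [sub_add_cancel] at h1
  rw [h1, add_sub_cancel_right]

theorem IsForm.congr {φ : B → Z} (h : IsForm π red φ) (hπ : red π = 0) {f : B} (hf : red f = 0) (b : B) :
    φ (f + π * b) = φ f := by
  rw [h.add f _ hf (by rw [map_mul, hπ, zero_mul]), h.pi, add_zero]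

variable (π red n) in
/-- `φ` is the difference of two lifts. -/
def IsDiff (J' J'' : Ideal B) (φ : B → Z) : Prop :=
  ∀ f', f' ∈ J' → ∀ f'', f'' ∈ J'' → ∀ a, f' - f'' = π ^ (n + 1) * a → φ f' = red a

/-- The pair of lifts lie over the same ideal. -/
def Over (π : B) (n : ℕ) (J : Ideal B) (J' : Ideal B) : Prop := J' ⊔ span {π ^ (n + 1)} = J

theorem Over.exists_partner (h' : Over π n J J') (h'' : Over π n J J'') {f' : B} (hf : f' ∈ J') :
    ∃ f'' ∈ J'', ∃ a, f' - f'' = π ^ (n + 1) * a := by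
  have h : f' ∈ J'' ⊔ span {π ^ (n + 1)} := h''.symm ▸ h' ▸ Submodule.mem_sup_left hf
  obtain ⟨f'', hf'', y, hy, he⟩ := Submodule.mem_sup.1 h
  obtain ⟨a, rfl⟩ := Ideal.mem_span_singleton'.1 hy
  exact ⟨f'', hf'', a, by linear_combination -he⟩

theorem Over.le (h' : Over π n J J') : J' ≤ J := h' ▸ le_sup_left

variable (hJ : Lev π red n J) (hJ' : Lev π red (n + 1) J') (hJ'' : Lev π red (n + 1) J'')

include hJ hJ'' in
theorem red_eq_zero_of_pi (h'' : Over π n J J'') (h' : Over π n J J') (hJ' : Lev π red (n + 1) J')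
    {y' y'' g a : B} (hy' : y' ∈ J') (hy'' : y'' ∈ J'') (hg : y' = π * g)
    (he : y' - y'' = π ^ (n + 1) * a) : red a = 0 := by
  refine hJ''.red_of_top ?_
  have hg' : g ∈ J' ⊔ span {π ^ (n + 1)} := hJ'.flat g (hg ▸ hy')
  rw [show J' ⊔ span {π ^ (n + 1)} = J from h', ← show J'' ⊔ span {π ^ (n + 1)} = J from h''] at hg'
  obtain ⟨g'', hg'', y, hy, hge⟩ := Submodule.mem_sup.1 hg'
  obtain ⟨d, rfl⟩ := Ideal.mem_span_singleton'.1 hy
  rw [← he, hg, ← hge]
  have : π * (g'' + d * π ^ (n + 1)) = π * g'' + d * π ^ (n + 1 + 1) := by ring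
  rw [this]
  exact sub_mem (add_mem (J''.mul_mem_left _ hg'') (J''.mul_mem_left _ hJ''.pow_mem)) hy''

include hJ hJ' hJ'' in
/-- Two lifts differ by a form. -/
theorem exists_isDiff (h' : Over π n J J') (h'' : Over π n J J'') :
    ∃ φ, IsForm π red φ ∧ IsDiff π red n J' J'' φ := by
  have hex : ∀ f, red f = 0 → ∃ f' ∈ J', ∃ b, f = f' + π * b := fun f hf => by
    have h : f ∈ J' ⊔ span {π} := hJ'.sup_eq ▸ hf
    obtain ⟨f', hf', y, hy, he⟩ := Submodule.mem_sup.1 h
    obtain ⟨b, rfl⟩ := Ideal.mem_span_singleton'.1 hy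
    exact ⟨f', hf', b, by linear_combination -he⟩
  have hval : ∀ f, ∃ z, ∀ f' ∈ J', ∀ b, f = f' + π * b → ∀ f'' ∈ J'', ∀ a, f' - f'' = π ^ (n + 1) * a → z = red a := by
    intro f
    by_cases hf : red f = 0
    · obtain ⟨f', hf', b, hb⟩ := hex f hf
      obtain ⟨f'', hf'', a, ha⟩ := h'.exists_partner h'' hf'
      refine ⟨red a, fun g' hg' c hc g'' hg'' a' ha' => ?_⟩
      rw [← sub_eq_zero, ← map_sub]
      exact red_eq_zero_of_pi hJ hJ'' h'' h' hJ' (sub_mem hf' hg') (sub_mem hf'' hg'') (g := c - b)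
        (by linear_combination hc - hb) (by linear_combination ha - ha')
    · exact ⟨0, fun f' hf' b hb => absurd (by rw [hb, map_add, map_mul, hJ'.red_eq_zero hf', hJ'.red_pi]; simp) hf⟩
  choose φ hφ using hval
  refine ⟨φ, ⟨fun f g hf hg => ?_, fun b f hf => ?_, fun b => ?_⟩,
    fun f' hf' f'' hf'' a ha => hφ f' f' hf' 0 (by ring) f'' hf'' a ha⟩
  · obtain ⟨f', hf', b, hb⟩ := hex f hf
    obtain ⟨g', hg', c, hc⟩ := hex g hg
    obtain ⟨f'', hf'', a, ha⟩ := h'.exists_partner h'' hf'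
    obtain ⟨g'', hg'', a', ha'⟩ := h'.exists_partner h'' hg'
    rw [hφ f f' hf' b hb f'' hf'' a ha, hφ g g' hg' c hc g'' hg'' a' ha', ← map_add]
    exact hφ _ (f' + g') (add_mem hf' hg') (b + c) (by linear_combination hb + hc) (f'' + g'') (add_mem hf'' hg'') _
      (by linear_combination ha + ha')
  · obtain ⟨f', hf', c, hc⟩ := hex f hf
    obtain ⟨f'', hf'', a, ha⟩ := h'.exists_partner h'' hf'
    rw [hφ f f' hf' c hc f'' hf'' a ha, ← map_mul]
    exact hφ _ (b * f') (J'.mul_mem_left _ hf') (b * c) (by linear_combination b * hc) (b * f'')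
      (J''.mul_mem_left _ hf'') _ (by linear_combination b * ha)
  · rw [← map_zero red]
    exact hφ _ 0 (zero_mem _) b (by ring) 0 (zero_mem _) 0 (by ring)

include hJ' in
theorem IsDiff.ext (h' : Over π n J J') (h'' : Over π n J J'') {φ ψ : B → Z} (hφ : IsForm π red φ)
    (hψ : IsForm π red ψ) (d : IsDiff π red n J' J'' φ) (d' : IsDiff π red n J' J'' ψ) {f : B} (hf : red f = 0) :
    φ f = ψ f := by
  have h : f ∈ J' ⊔ span {π} := hJ'.sup_eq ▸ hf
  obtain ⟨f', hf', y, hy, he⟩ := Submodule.mem_sup.1 h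
  obtain ⟨b, rfl⟩ := Ideal.mem_span_singleton'.1 hy
  obtain ⟨f'', hf'', a, ha⟩ := h'.exists_partner h'' hf'
  rw [← he, mul_comm b, hφ.congr hJ'.red_pi (hJ'.red_eq_zero hf'), hψ.congr hJ'.red_pi (hJ'.red_eq_zero hf'),
    d f' hf' f'' hf'' a ha, d' f' hf' f'' hf'' a ha]

include hJ' hJ'' in
theorem IsDiff.add (h' : Over π n J J') (h'' : Over π n J J'') {φ ψ : B → Z}
    (hψ : IsForm π red ψ) (d : IsDiff π red n J' J'' φ) (d' : IsDiff π red n J'' J''' ψ) :
    IsDiff π red n J' J''' (φ + ψ) := by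
  intro f' hf' f''' hf''' a ha
  obtain ⟨f'', hf'', a₁, ha₁⟩ := h'.exists_partner h'' hf'
  have e : f'' - f''' = π ^ (n + 1) * (a - a₁) := by linear_combination ha - ha₁
  have e' : f'' = f' + π * (-(π ^ n * a₁)) := by linear_combination -ha₁
  have h2 := d' f'' hf'' f''' hf''' _ e
  rw [e', hψ.congr hJ'.red_pi (hJ'.red_eq_zero hf'), map_sub] at h2
  rw [Pi.add_apply, d f' hf' f'' hf'' a₁ ha₁, h2, add_sub_cancel]

include hJ' hJ'' in
theorem IsDiff.eq_of_zero (h' : Over π n J J') (h'' : Over π n J J'') {φ : B → Z}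
    (d : IsDiff π red n J' J'' φ) (h0 : ∀ f, red f = 0 → φ f = 0) : J' = J'' := by
  have key : ∀ a, red a = 0 → π ^ (n + 1) * a ∈ J' ∧ π ^ (n + 1) * a ∈ J'' := by
    have : ∀ {K : Ideal B}, Lev π red (n + 1) K → ∀ a, red a = 0 → π ^ (n + 1) * a ∈ K := by
      intro K hK a ha
      have h : a ∈ K ⊔ span {π} := hK.sup_eq ▸ ha
      obtain ⟨k, hk, y, hy, he⟩ := Submodule.mem_sup.1 h
      obtain ⟨c, rfl⟩ := Ideal.mem_span_singleton'.1 hy
      rw [← he, mul_add]
      refine add_mem (K.mul_mem_left _ hk) ?_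
      rw [show π ^ (n + 1) * (c * π) = c * π ^ (n + 1 + 1) by ring]
      exact K.mul_mem_left _ hK.pow_mem
    exact fun a ha => ⟨this hJ' a ha, this hJ'' a ha⟩
  refine le_antisymm (fun f' hf' => ?_) fun f'' hf'' => ?_
  · obtain ⟨f'', hf'', a, ha⟩ := h'.exists_partner h'' hf'
    rw [show f' = f'' + π ^ (n + 1) * a by linear_combination ha]
    exact add_mem hf'' (key a ((d f' hf' f'' hf'' a ha).symm.trans (h0 _ (hJ'.red_eq_zero hf')))).2
  · obtain ⟨f', hf', a, ha⟩ := h''.exists_partner h' hf''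
    rw [show f'' = f' + π ^ (n + 1) * a by linear_combination ha]
    have := d f' hf' f'' hf'' (-a) (by linear_combination -ha)
    rw [h0 _ (hJ'.red_eq_zero hf'), map_neg, eq_comm, neg_eq_zero] at this
    exact add_mem hf' (key a this).1

include hJ hJ' in
/-- Lifts twist by forms. -/
theorem exists_twist (h' : Over π n J J') {φ : B → Z} (hφ : IsForm π red φ) (hred : Function.Surjective red) :
    ∃ J'', Lev π red (n + 1) J'' ∧ Over π n J J'' ∧ IsDiff π red n J' J'' φ := by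
  have hπ : ∀ b, red (π * b) = 0 := fun b => by rw [map_mul, hJ.red_pi, zero_mul]
  let K : Ideal B :=
    { carrier := {x | ∃ j ∈ J', ∃ a, red a = φ j ∧ x = j - π ^ (n + 1) * a}
      zero_mem' := ⟨0, zero_mem _, 0, by rw [map_zero, show (0 : B) = π * 0 by ring, hφ.pi], by ring⟩
      add_mem' := by
        rintro _ _ ⟨j, hj, a, ha, rfl⟩ ⟨j', hj', a', ha', rfl⟩
        exact ⟨j + j', add_mem hj hj', a + a', by
          rw [map_add, ha, ha', hφ.add _ _ (hJ'.red_eq_zero hj) (hJ'.red_eq_zero hj')], by ring⟩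
      smul_mem' := by
        rintro b _ ⟨j, hj, a, ha, rfl⟩
        exact ⟨b * j, J'.mul_mem_left _ hj, b * a, by rw [map_mul, ha, hφ.smul _ _ (hJ'.red_eq_zero hj)],
          by rw [smul_eq_mul]; ring⟩ }
  have hmem : ∀ j ∈ J', ∃ a, red a = φ j ∧ j - π ^ (n + 1) * a ∈ K := fun j hj => by
    obtain ⟨a, ha⟩ := hred (φ j)
    exact ⟨a, ha, j, hj, a, ha, rfl⟩
  have hover : Over π n J K := by
    refine le_antisymm (sup_le ?_ ?_) fun b hb => ?_
    · rintro _ ⟨j, hj, a, -, rfl⟩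
      exact sub_mem (h'.le hj) (J.mul_mem_right _ hJ.pow_mem)
    · rw [Ideal.span_singleton_le_iff_mem]
      exact hJ.pow_mem
    · rw [← show J' ⊔ span {π ^ (n + 1)} = J from h'] at hb
      obtain ⟨j, hj, y, hy, rfl⟩ := Submodule.mem_sup.1 hb
      obtain ⟨c, rfl⟩ := Ideal.mem_span_singleton'.1 hy
      obtain ⟨a, -, ha⟩ := hmem j hj
      rw [show j + c * π ^ (n + 1) = (j - π ^ (n + 1) * a) + (a + c) * π ^ (n + 1) by ring]
      exact Submodule.add_mem_sup ha (Ideal.mem_span_singleton'.2 ⟨_, rfl⟩)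
  have hpow : π ^ (n + 1 + 1) ∈ K :=
    ⟨π ^ (n + 1 + 1), hJ'.pow_mem, 0, by rw [map_zero, pow_succ', hφ.pi], by ring⟩
  refine ⟨K, ⟨hpow, le_antisymm ?_ ?_, fun b hb => ?_⟩, hover, ?_⟩
  · refine sup_le ?_ ?_
    · exact hover.le.trans hJ.le
    · rw [Ideal.span_singleton_le_iff_mem]
      exact hJ.red_pi
  · intro f hf
    rw [← hJ.sup_eq, ← show K ⊔ span {π ^ (n + 1)} = J from hover, sup_assoc] at hf
    refine (sup_le_sup_left (sup_le ?_ le_rfl) K) hf
    rw [Ideal.span_singleton_le_span_singleton]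
    exact dvd_pow_self π (Nat.succ_ne_zero n)
  · obtain ⟨j, hj, a, ha, he⟩ := hb
    -- `π b` is congruent to `j`
    have hj' : j = π * (b + π ^ n * a) := by linear_combination -he
    rw [hj', hφ.pi] at ha
    rw [show K ⊔ span {π ^ (n + 1)} = J from hover]
    have h1 := hJ'.flat (b + π ^ n * a) (hj' ▸ hj)
    rw [show J' ⊔ span {π ^ (n + 1)} = J from h'] at h1
    have h2 : π ^ n * a ∈ J := by
      have h3 : a ∈ J ⊔ span {π} := hJ.sup_eq ▸ ha
      obtain ⟨k, hk, y, hy, hk'⟩ := Submodule.mem_sup.1 h3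
      obtain ⟨c, rfl⟩ := Ideal.mem_span_singleton'.1 hy
      rw [← hk', mul_add, show π ^ n * (c * π) = c * π ^ (n + 1) by ring]
      exact add_mem (J.mul_mem_left _ hk) (J.mul_mem_left _ hJ.pow_mem)
    simpa using sub_mem h1 h2
  · rintro f' hf' _ ⟨j, hj, a, ha, rfl⟩ c hc
    have h1 : π ^ (n + 1) * (c - a) ∈ J' := by
      rw [show π ^ (n + 1) * (c - a) = f' - j by linear_combination -hc]
      exact sub_mem hf' hj
    have h2 := hJ'.red_of_top h1
    rw [map_sub, sub_eq_zero] at h2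
    rw [h2, ha, show f' = j + π * (π ^ n * (c - a)) by linear_combination hc,
      hφ.congr hJ.red_pi (hJ'.red_eq_zero hj)]

end Groth.L11.EmbLift
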