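import Groth.Agent.L11.EmbLift.Alg
import Mathlib.RingTheory.Flat.EquationalCriterion

/-! # Restriction and existence of flat lifts of ideals -/

set_option autoImplicit false
set_option backward.isDefEq.respectTransparency.types false
set_option backward.isDefEq.respectTransparency false

universe u v

namespace Groth.L11.EmbLift

open Ideal (span)

variable {B Z : Type u} [CommRing B] [CommRing Z] {π : B} {red : B →+* Z} {n : ℕ} {J J' J'' : Ideal B}
  {B' Z' : Type u} [CommRing B'] [CommRing Z'] (ρ : B →+* B') {red' : B' →+* Z'}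

theorem Lev.map (h : Lev π red n J) (hflat : ρ.Flat) (hker : (RingHom.ker red).map ρ = RingHom.ker red') :
    Lev (ρ π) red' n (J.map ρ) := by
  refine ⟨by rw [← map_pow]; exact Ideal.mem_map_of_mem ρ h.pow_mem, ?_, fun b hb => ?_⟩
  · rw [← hker, ← h.sup_eq, Ideal.map_sup, Ideal.map_span, Set.image_singleton]
  · letI := ρ.toAlgebra
    haveI : Module.Flat B B' := hflat
    obtain ⟨s, c, hj, hs⟩ : ∃ (s : Finset B) (c : B → B'), (∀ j ∈ s, j ∈ J) ∧ ∑ j ∈ s, ρ j * c j = ρ π * b := by
      suffices H : ∀ x ∈ Submodule.span B' (ρ '' (J : Set B)),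
          ∃ (s : Finset B) (c : B → B'), (∀ j ∈ s, j ∈ J) ∧ ∑ j ∈ s, ρ j * c j = x from H _ hb
      intro x hx
      induction hx using Submodule.span_induction with
      | mem x hx =>
        obtain ⟨j, hj, rfl⟩ := hx
        exact ⟨{j}, fun _ => 1, by simpa using hj, by simp⟩
      | zero => exact ⟨∅, fun _ => 0, by simp, by simp⟩
      | add x y hx hy ihx ihy =>
        classical
        obtain ⟨s, c, hs, hc⟩ := ihx
        obtain ⟨t, d, ht, hd⟩ := ihy
        refine ⟨s ∪ t, fun j => (if j ∈ s then c j else 0) + if j ∈ t then d j else 0,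
          fun j hj => (Finset.mem_union.1 hj).elim (hs j) (ht j), ?_⟩
        simp only [mul_add, mul_ite, mul_zero, Finset.sum_add_distrib, Finset.sum_ite_mem,
          Finset.union_inter_cancel_left, Finset.union_inter_cancel_right, hc, hd]
      | smul a x hx ihx =>
        obtain ⟨s, c, hs, hc⟩ := ihx
        refine ⟨s, fun j => a * c j, hs, ?_⟩
        rw [smul_eq_mul, ← hc, Finset.mul_sum]
        exact Finset.sum_congr rfl fun j _ => by ring
    have hrel : ∑ o : Option s, (o.elim π fun j => -j.1) • (o.elim b fun j => c j.1) = 0 := by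
      rw [Fintype.sum_option]
      simp only [Option.elim, Algebra.smul_def, RingHom.algebraMap_toAlgebra, map_neg, neg_mul,
        Finset.sum_neg_distrib]
      rw [Finset.sum_coe_sort s (fun j => ρ j * c j), hs, add_neg_cancel]
    obtain ⟨κ, a, y, hx, ha⟩ := Module.Flat.isTrivialRelation_of_sum_smul_eq_zero (R := B) (M := B') hrel
    have hb' : b = ∑ k : Fin κ, a none k • y k := hx none
    rw [hb']
    have hle : (J.map ρ ⊔ span {ρ π ^ n}) = (J ⊔ span {π ^ n}).map ρ := by
      rw [Ideal.map_sup, Ideal.map_span, Set.image_singleton, map_pow]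
    rw [hle]
    refine sum_mem fun k _ => ?_
    rw [Algebra.smul_def]
    refine Ideal.mul_mem_right _ _ (Ideal.mem_map_of_mem ρ (h.flat _ ?_))
    have hk := ha k
    rw [Fintype.sum_option] at hk
    simp only [Option.elim] at hk
    rw [show π * a none k = ∑ j : s, j.1 * a (some j) k by
      rw [← sub_eq_zero, ← hk]; simp [Finset.sum_neg_distrib]; ring]
    exact sum_mem fun j _ => J.mul_mem_right _ (hj _ j.2)

theorem Over.map (h : Over π n J J') : Over (ρ π) n (J.map ρ) (J'.map ρ) := by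
  show J'.map ρ ⊔ span {ρ π ^ (n + 1)} = J.map ρ
  rw [← show J' ⊔ span {π ^ (n + 1)} = J from h, Ideal.map_sup, Ideal.map_span, Set.image_singleton, map_pow]

/-- Differences restrict. -/
theorem IsDiff.map_apply {r : Z →+* Z'} (hr : ∀ b, red' (ρ b) = r (red b)) (hJ' : Lev π red (n + 1) J')
    (h' : Over π n J J') (h'' : Over π n J J'')
    {φ : B → Z} {φ' : B' → Z'} (hφ : IsForm π red φ) (hφ' : IsForm (ρ π) red' φ')
    (d : IsDiff π red n J' J'' φ) (d' : IsDiff (ρ π) red' n (J'.map ρ) (J''.map ρ) φ') {f : B} (hf : red f = 0) :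
    φ' (ρ f) = r (φ f) := by
  have h : f ∈ J' ⊔ span {π} := hJ'.sup_eq ▸ hf
  obtain ⟨f', hf', y, hy, he⟩ := Submodule.mem_sup.1 h
  obtain ⟨b, rfl⟩ := Ideal.mem_span_singleton'.1 hy
  obtain ⟨f'', hf'', a, ha⟩ := h'.exists_partner h'' hf'
  have hf0 : red f' = 0 := hJ'.red_eq_zero hf'
  rw [← he, mul_comm b, hφ.congr hJ'.red_pi hf0, map_add, map_mul,
    hφ'.congr (by rw [hr, hJ'.red_pi, map_zero]) (by rw [hr, hf0, map_zero]),
    d f' hf' f'' hf'' a ha, ← hr]
  exact d' _ (Ideal.mem_map_of_mem ρ hf') _ (Ideal.mem_map_of_mem ρ hf'') _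
    (by rw [← map_sub, ha, map_mul, map_pow])

/-- Regularity of a list modulo `π`. -/
def RegMod (π : B) (fs : List B) : Prop :=
  ∀ k (hk : k < fs.length) c, c * fs[k] ∈ Ideal.ofList (fs.take k) ⊔ span {π} →
    c ∈ Ideal.ofList (fs.take k) ⊔ span {π}

theorem flat_ofList {fs : List B} (hreg : RegMod π fs) (hπ : IsSMulRegular B π) (m : ℕ) :
    ∀ b, π * b ∈ Ideal.ofList fs ⊔ span {π ^ (m + 1)} → b ∈ Ideal.ofList fs ⊔ span {π ^ m} := by
  suffices H : ∀ k, k ≤ fs.length → ∀ b, π * b ∈ Ideal.ofList (fs.take k) ⊔ span {π ^ (m + 1)} →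
      b ∈ Ideal.ofList (fs.take k) ⊔ span {π ^ m} by
    simpa using H fs.length le_rfl
  intro k
  induction k with
  | zero =>
    intro _ b hb
    simp only [List.take_zero, Ideal.ofList_nil, bot_sup_eq, Ideal.mem_span_singleton'] at hb ⊢
    obtain ⟨c, hc⟩ := hb
    refine ⟨c, hπ ?_⟩
    show π * (c * π ^ m) = π * b
    rw [← hc]; ring
  | succ k ih =>
    intro hk b hb
    have hk' : k < fs.length := hk
    have htake : Ideal.ofList (fs.take (k + 1)) = Ideal.ofList (fs.take k) ⊔ span {fs[k]} := by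
      rw [← List.take_concat_get' fs k hk', Ideal.ofList_append, Ideal.ofList_singleton]
    rw [htake] at hb ⊢
    rw [sup_right_comm] at hb ⊢
    obtain ⟨i, hi, y, hy, he⟩ := Submodule.mem_sup.1 hb
    obtain ⟨c, rfl⟩ := Ideal.mem_span_singleton'.1 hy
    have hle : Ideal.ofList (fs.take k) ⊔ span {π ^ (m + 1)} ≤ Ideal.ofList (fs.take k) ⊔ span {π} :=
      sup_le_sup_left (by rw [Ideal.span_singleton_le_span_singleton]; exact dvd_pow_self π (Nat.succ_ne_zero m)) _
    have hc : c ∈ Ideal.ofList (fs.take k) ⊔ span {π} := hreg k hk' c (by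
      rw [show c * fs[k] = π * b - i by linear_combination he]
      exact sub_mem (Submodule.mem_sup_right (Ideal.mem_span_singleton'.2 ⟨b, mul_comm _ _⟩)) (hle hi))
    obtain ⟨j, hj, z, hz, hce⟩ := Submodule.mem_sup.1 hc
    obtain ⟨e, rfl⟩ := Ideal.mem_span_singleton'.1 hz
    have h1 := ih (Nat.le_of_succ_le hk) (b - e * fs[k]) (by
      rw [show π * (b - e * fs[k]) = i + j * fs[k] by linear_combination -he - fs[k] * hce]
      exact add_mem hi (Submodule.mem_sup_left (Ideal.mul_mem_right _ _ hj)))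
    rw [show b = (b - e * fs[k]) + e * fs[k] by ring]
    exact Submodule.add_mem_sup h1 (Ideal.mem_span_singleton'.2 ⟨e, rfl⟩)

/-- Lifts exist when the kernel is generated by a regular sequence modulo `π`. -/
theorem exists_lev_succ (hJ : Lev π red n J) (hπ : IsSMulRegular B π) {fs : List B} (hfs : ∀ f ∈ fs, f ∈ J)
    (hgen : Ideal.ofList fs ⊔ span {π} = RingHom.ker red) (hreg : RegMod π fs) :
    ∃ J', Lev π red (n + 1) J' ∧ Over π n J J' := by
  let K := Ideal.ofList fs ⊔ span {π ^ (n + 1 + 1)}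
  have hKJ : K ⊔ span {π ^ (n + 1)} ≤ J := by
    refine sup_le (sup_le (Ideal.span_le.2 hfs) ?_) ?_ <;> rw [Ideal.span_singleton_le_iff_mem]
    · rw [pow_succ]; exact J.mul_mem_right _ hJ.pow_mem
    · exact hJ.pow_mem
  have hstep : ∀ i, i ≤ n + 1 → J ≤ Ideal.ofList fs ⊔ span {π ^ i} := by
    intro i
    induction i with
    | zero => intro _; simp
    | succ i ih =>
      intro hi b hb
      obtain ⟨k, hk, y, hy, he⟩ := Submodule.mem_sup.1 (hgen.symm ▸ hJ.le hb : b ∈ Ideal.ofList fs ⊔ span {π})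
      obtain ⟨c, rfl⟩ := Ideal.mem_span_singleton'.1 hy
      have hc : π * c ∈ J := by
        rw [show π * c = b - k by linear_combination he]
        exact sub_mem hb ((Ideal.span_le.2 hfs) hk)
      have hle : J ⊔ span {π ^ n} ≤ Ideal.ofList fs ⊔ span {π ^ i} :=
        sup_le (ih (Nat.le_of_succ_le hi)) (le_sup_of_le_right (by
          rw [Ideal.span_singleton_le_span_singleton]; exact pow_dvd_pow π (by omega)))
      obtain ⟨k', hk', z, hz, hce⟩ := Submodule.mem_sup.1 (hle (hJ.flat c hc))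
      obtain ⟨d, rfl⟩ := Ideal.mem_span_singleton'.1 hz
      rw [← he, ← hce, show k + (k' + d * π ^ i) * π = (k + k' * π) + d * π ^ (i + 1) by ring]
      exact Submodule.add_mem_sup (add_mem hk (Ideal.mul_mem_right _ _ hk'))
        (Ideal.mem_span_singleton'.2 ⟨d, rfl⟩)
  have hover : Over π n J K := le_antisymm hKJ ((hstep _ le_rfl).trans (sup_le_sup_right le_sup_left _))
  refine ⟨K, ⟨Submodule.mem_sup_right (Ideal.mem_span_singleton_self _), ?_, fun b hb => ?_⟩, hover⟩
  · rw [← hgen]
    refine le_antisymm (sup_le (sup_le le_sup_left ?_) le_sup_right) (sup_le_sup_right le_sup_left _)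
    exact le_sup_of_le_right (by rw [Ideal.span_singleton_le_span_singleton]; exact dvd_pow_self π (by omega))
  · exact (sup_le_sup_right (le_sup_left : Ideal.ofList fs ≤ K) _) (flat_ofList hreg hπ (n + 1) b hb)

end Groth.L11.EmbLift
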