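import Groth.Agent.L11.EmbLift.Alg2
import Groth.Agent.L16.AffineBC.Pullback
import Groth.Agent.L16.HomSh.Coherent
import Groth.Agent.L18.IdealModule
import Groth.Agent.L19.IdealInvertible
import Groth.Prelude.Def_Omega2

/-! # Sections of the normal sheaf as forms on the ideal -/

set_option autoImplicit false
set_option linter.style.haveILetI false
set_option linter.unusedSectionVars false
set_option backward.isDefEq.respectTransparency.types false
set_option backward.isDefEq.respectTransparency false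

universe u

open CategoryTheory CategoryTheory.Limits AlgebraicGeometry TopologicalSpace Opposite

noncomputable section

namespace Groth.L11.EmbLift

open Groth.L18.Frame (rs ro rs_rs rs_self pull pull_rs pull_smul)
open Groth.L16.HomSh (homMod secEquiv ev ev_rs secEquiv_rs exists_linearEquiv)
open Groth.Agent.L19.IdealInvertible (io io_rs io_smul io_inj)
open Groth.L16.AffineBC (pullRes)

variable {P Pk X₀ : Scheme.{u}} (a : Pk ⟶ P) (i : X₀ ⟶ Pk) (π : Γ(P, ⊤))

/-- The piece of the subscheme over an open. -/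
abbrev zW (W : P.Opens) : X₀.Opens := i ⁻¹ᵁ (a ⁻¹ᵁ W)

/-- Restriction to the subscheme. -/
abbrev red (W : P.Opens) : Γ(P, W) →+* Γ(X₀, zW a i W) := (a.app W ≫ i.app (a ⁻¹ᵁ W)).hom

/-- The element on an open. -/
abbrev piW (W : P.Opens) : Γ(P, W) := ro le_top π

/-- The conormal sheaf. -/
abbrev CC : X₀.Modules := (Scheme.Modules.pullback i).obj (ClSub.idealMod i.ker)

/-- The normal sheaf. -/
abbrev NN : X₀.Modules := homMod (CC i) (Coh.structureModule X₀)

theorem red_ro {W W' : P.Opens} (h : W' ≤ W) (b : Γ(P, W)) :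
    red a i W' (ro h b) = ro (i.preimage_mono (a.preimage_mono h)) (red a i W b) := by
  show i.app _ (a.app W' (P.presheaf.map (homOfLE h).op b)) = _
  rw [← ConcreteCategory.comp_apply (P.presheaf.map (homOfLE h).op) (a.app W'), Scheme.Hom.naturality]
  exact congr($(i.naturality ((Opens.map a.base).map (homOfLE h)).op) (a.app W b))

open Classical in
/-- The element of the ideal of the subscheme. -/
def km (W : P.Opens) (f : Γ(P, W)) : Γ(ClSub.idealMod i.ker, a ⁻¹ᵁ W) :=
  if h : ∃ m, io i.ker (a ⁻¹ᵁ W) m = a.app W f then h.choose else 0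

variable [IsClosedImmersion i] [IsAffineHom a]

theorem io_km {W : P.Opens} (hW : IsAffineOpen W) {f : Γ(P, W)} (hf : red a i W f = 0) :
    io i.ker (a ⁻¹ᵁ W) (km a i W f) = a.app W f := by
  have h : ∃ m, io i.ker (a ⁻¹ᵁ W) m = a.app W f :=
    (Groth.L18.IdealModule.mem_ideal_iff i.ker (hW.preimage a) _).1 (by
      rw [Scheme.Hom.ker_apply]
      exact hf)
  rw [km, dif_pos h]
  exact h.choose_spec

/-- The form of a section of the normal sheaf. -/
def nu (W : P.Opens) (t : Γ(NN i, zW a i W)) (f : Γ(P, W)) : Γ(X₀, zW a i W) :=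
  (show Γ(Coh.structureModule X₀, zW a i W) from
    ev (secEquiv _ t) le_rfl (pull i (ClSub.idealMod i.ker) (a ⁻¹ᵁ W) (km a i W f)))

theorem pull_add' {V : Pk.Opens} (m m' : Γ(ClSub.idealMod i.ker, V)) :
    pull i (ClSub.idealMod i.ker) V (m + m') = pull i _ V m + pull i _ V m' :=
  map_add (((Scheme.Modules.pullbackPushforwardAdjunction i).unit.app (ClSub.idealMod i.ker)).app V).hom m m'

theorem pull_zero' {V : Pk.Opens} : pull i (ClSub.idealMod i.ker) V 0 = 0 :=
  map_zero (((Scheme.Modules.pullbackPushforwardAdjunction i).unit.app (ClSub.idealMod i.ker)).app V).hom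

theorem nu_add (W : P.Opens) (t t' : Γ(NN i, zW a i W)) (f : Γ(P, W)) :
    nu a i W (t + t') f = nu a i W t f + nu a i W t' f := by
  rw [nu, nu, nu, map_add]
  rfl

theorem nu_sub (W : P.Opens) (t t' : Γ(NN i, zW a i W)) (f : Γ(P, W)) :
    nu a i W (t - t') f = nu a i W t f - nu a i W t' f := by
  have h := nu_add a i W (t - t') t' f
  rw [sub_add_cancel] at h
  rw [h, add_sub_cancel_right]

theorem nu_zero (W : P.Opens) (f : Γ(P, W)) : nu a i W (0 : Γ(NN i, zW a i W)) f = 0 := by
  have h := nu_sub a i W (0 : Γ(NN i, zW a i W)) 0 f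
  rw [sub_self, sub_self] at h
  exact h

variable {a i π} (hπ : ∀ W : P.Opens, IsAffineOpen W → RingHom.ker (a.app W).hom = Ideal.span {piW π W})

include hπ in
theorem red_pi {W : P.Opens} (hW : IsAffineOpen W) : red a i W (piW π W) = 0 := by
  show i.app _ (a.app W (piW π W)) = 0
  rw [show a.app W (piW π W) = 0 from
    (hπ W hW).ge (Ideal.mem_span_singleton_self _), map_zero]

include hπ in
theorem isForm_nu {W : P.Opens} (hW : IsAffineOpen W) (t : Γ(NN i, zW a i W)) :
    IsForm (piW π W) (red a i W) (nu a i W t) := by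
  refine ⟨fun f g hf hg => ?_, fun b f hf => ?_, fun b => ?_⟩
  · have e : km a i W (f + g) = km a i W f + km a i W g := io_inj i.ker _ (by
      rw [io_km a i hW (by rw [map_add, hf, hg, add_zero]), show io i.ker _ (km a i W f + km a i W g) =
        io i.ker _ (km a i W f) + io i.ker _ (km a i W g) from map_add _ _ _, io_km a i hW hf, io_km a i hW hg,
        map_add])
    rw [nu, nu, nu, e, pull_add', map_add]
  · have e : km a i W (b * f) = a.app W b • km a i W f := io_inj i.ker _ (by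
      rw [io_km a i hW (by rw [map_mul, hf, mul_zero]), io_smul, io_km a i hW hf, map_mul])
    rw [nu, nu, e, pull_smul, Groth.L16.HomSh.ev_smul]
    rfl
  · have e : km a i W (piW π W * b) = 0 := io_inj i.ker _ (by
      have hz : a.app W (piW π W * b) = 0 :=
        (hπ W hW).ge (Ideal.mul_mem_right _ _ (Ideal.mem_span_singleton_self _))
      rw [io_km a i hW (by show i.app _ (a.app W _) = 0; rw [hz, map_zero]), hz]
      exact (map_zero _).symm)
    rw [nu, e, pull_zero', map_zero]

theorem nu_rs {W W' : P.Opens} (hW : IsAffineOpen W) (hW' : IsAffineOpen W') (h : W' ≤ W)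
    (t : Γ(NN i, zW a i W)) {f : Γ(P, W)} (hf : red a i W f = 0) :
    nu a i W' (rs (NN i) (i.preimage_mono (a.preimage_mono h)) t) (ro h f) =
      ro (i.preimage_mono (a.preimage_mono h)) (nu a i W t f) := by
  have e : km a i W' (ro h f) = rs (ClSub.idealMod i.ker) (a.preimage_mono h) (km a i W f) :=
    io_inj i.ker _ (by
      rw [io_km a i hW' (by rw [red_ro, hf]; exact map_zero _), io_rs, io_km a i hW hf]
      exact congr($(a.naturality (homOfLE h).op) f))
  rw [nu, nu, e, ← pull_rs, secEquiv_rs _ t le_rfl]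
  exact (ev_rs (secEquiv (zW a i W) t) le_rfl _ _).symm

variable (hsurj : ∀ W : P.Opens, IsAffineOpen W → Function.Surjective (a.app W))

include hsurj in
theorem nu_inj {W : P.Opens} (hW : IsAffineOpen W) {t t' : Γ(NN i, zW a i W)}
    (h : ∀ f, red a i W f = 0 → nu a i W t f = nu a i W t' f) : t = t' := by
  have hV := hW.preimage a
  have hU : IsAffineOpen (zW a i W) := hV.preimage i
  haveI : Coh.IsQCoh (CC i) := Groth.L16.AffineBC.isQCoh_pullback i _
  letI : Algebra Γ(Pk, a ⁻¹ᵁ W) Γ(X₀, zW a i W) := (i.appLE (a ⁻¹ᵁ W) (zW a i W) le_rfl).hom.toAlgebra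
  letI := Module.compHom Γ(CC i, zW a i W) (i.appLE (a ⁻¹ᵁ W) (zW a i W) le_rfl).hom
  haveI : IsScalarTower Γ(Pk, a ⁻¹ᵁ W) Γ(X₀, zW a i W) Γ(CC i, zW a i W) :=
    IsScalarTower.of_algebraMap_smul fun _ _ => rfl
  obtain ⟨e, he⟩ := exists_linearEquiv (M := CC i) (N := Coh.structureModule X₀) hU
  have hbc := Groth.L16.AffineBC.isBaseChange_pull i (ClSub.idealMod i.ker) hV hU le_rfl
  refine e.injective (LinearMap.ext fun x => ?_)
  induction x using hbc.inductionOn with
  | zero => rw [map_zero, map_zero]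
  | smul z x hx => rw [map_smul, map_smul, hx]
  | add x y hx hy => rw [map_add, map_add, hx, hy]
  | tmul m =>
    obtain ⟨f, hf⟩ := hsurj W hW (io i.ker _ m)
    have hf0 : red a i W f = 0 := by
      show i.app _ (a.app W f) = 0
      rw [hf]
      exact RingHom.mem_ker.1 (Scheme.Hom.ker_apply i ⟨_, hV⟩ ▸
        (Groth.L18.IdealModule.mem_ideal_iff i.ker hV _).2 ⟨m, rfl⟩)
    have hm : km a i W f = m := io_inj i.ker _ ((io_km a i hW hf0).trans hf)
    have h1 := h f hf0
    rw [nu, nu, hm] at h1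
    show e t (rs _ le_rfl (pull i _ _ m)) = e t' (rs _ le_rfl (pull i _ _ m))
    rw [rs_self, he, he]
    exact h1

include hπ hsurj in
theorem exists_nu_eq {W : P.Opens} (hW : IsAffineOpen W) {φ : Γ(P, W) → Γ(X₀, zW a i W)}
    (hφ : IsForm (piW π W) (red a i W) φ) : ∃ t : Γ(NN i, zW a i W), ∀ f, red a i W f = 0 → nu a i W t f = φ f := by
  have hV := hW.preimage a
  have hU : IsAffineOpen (zW a i W) := hV.preimage i
  haveI : Coh.IsQCoh (CC i) := Groth.L16.AffineBC.isQCoh_pullback i _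
  letI : Algebra Γ(Pk, a ⁻¹ᵁ W) Γ(X₀, zW a i W) := (i.appLE (a ⁻¹ᵁ W) (zW a i W) le_rfl).hom.toAlgebra
  letI := Module.compHom Γ(CC i, zW a i W) (i.appLE (a ⁻¹ᵁ W) (zW a i W) le_rfl).hom
  haveI : IsScalarTower Γ(Pk, a ⁻¹ᵁ W) Γ(X₀, zW a i W) Γ(CC i, zW a i W) :=
    IsScalarTower.of_algebraMap_smul fun _ _ => rfl
  letI := Module.compHom Γ(Coh.structureModule X₀, zW a i W) (i.appLE (a ⁻¹ᵁ W) (zW a i W) le_rfl).hom
  haveI : IsScalarTower Γ(Pk, a ⁻¹ᵁ W) Γ(X₀, zW a i W) Γ(Coh.structureModule X₀, zW a i W) :=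
    IsScalarTower.of_algebraMap_smul fun _ _ => rfl
  obtain ⟨e, he⟩ := exists_linearEquiv (M := CC i) (N := Coh.structureModule X₀) hU
  have hbc := Groth.L16.AffineBC.isBaseChange_pull i (ClSub.idealMod i.ker) hV hU le_rfl
  choose pre hpre using fun m : Γ(ClSub.idealMod i.ker, a ⁻¹ᵁ W) => hsurj W hW (io i.ker _ m)
  have hpre0 : ∀ m, red a i W (pre m) = 0 := fun m => by
    show i.app _ (a.app W (pre m)) = 0
    rw [hpre]
    exact RingHom.mem_ker.1 (Scheme.Hom.ker_apply i ⟨_, hV⟩ ▸
      (Groth.L18.IdealModule.mem_ideal_iff i.ker hV _).2 ⟨m, rfl⟩)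
  have hwd : ∀ f f', red a i W f' = 0 → a.app W f = a.app W f' → φ f = φ f' := fun f f' hf' he => by
    obtain ⟨c, hc⟩ := Ideal.mem_span_singleton'.1 ((hπ W hW).le (show f - f' ∈ RingHom.ker (a.app W).hom by
      rw [RingHom.mem_ker, map_sub, he, sub_self]))
    rw [show f = f' + piW π W * c by linear_combination -hc]
    exact hφ.congr (red_pi hπ hW) hf' c
  let ℓ : Γ(ClSub.idealMod i.ker, a ⁻¹ᵁ W) →ₗ[Γ(Pk, a ⁻¹ᵁ W)] Γ(Coh.structureModule X₀, zW a i W) :=
    { toFun := fun m => φ (pre m)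
      map_add' := fun m m' => by
        rw [hwd _ (pre m + pre m') (by rw [map_add, hpre0, hpre0, add_zero]) (by
          rw [hpre, map_add, hpre, hpre]; exact map_add _ _ _), hφ.add _ _ (hpre0 _) (hpre0 _)]
      map_smul' := fun c m => by
        obtain ⟨b, hb⟩ := hsurj W hW c
        subst hb
        rw [hwd _ (b * pre m) (by rw [map_mul, hpre0, mul_zero]) (by rw [hpre, map_mul, hpre, io_smul]),
          hφ.smul _ _ (hpre0 _)]
        show i.app (a ⁻¹ᵁ W) (a.app W b) * φ (pre m) = i.appLE (a ⁻¹ᵁ W) (zW a i W) le_rfl (a.app W b) * φ (pre m)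
        rw [← Scheme.Hom.app_eq_appLE] }
  refine ⟨e.symm (hbc.lift ℓ), fun f hf => ?_⟩
  have h1 : e (e.symm (hbc.lift ℓ)) (pullRes i (ClSub.idealMod i.ker) le_rfl (km a i W f)) = ℓ (km a i W f) := by
    rw [e.apply_symm_apply]
    exact hbc.lift_eq ℓ _
  rw [he, show pullRes i (ClSub.idealMod i.ker) (le_refl (zW a i W)) (km a i W f) =
    pull i (ClSub.idealMod i.ker) (a ⁻¹ᵁ W) (km a i W f) from rs_self _ _ _] at h1
  exact h1.trans (hwd _ f hf (by rw [hpre, io_km a i hW hf]))

end Groth.L11.EmbLift
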