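import Groth.Agent.L11.EmbLift.Normal
import Groth.Agent.L02.Hilb.IdealGlue
import Groth.Agent.L12.LineLift.Cech2
import Groth.Agent.L22.Ideal
import Groth.Prelude.Def_Mor2
import Mathlib.RingTheory.Regular.Flat
import Mathlib.AlgebraicGeometry.Morphisms.Flat

/-! # One step of lifting an embedded subscheme -/

set_option autoImplicit false
set_option linter.style.haveILetI false
set_option linter.unusedSectionVars false
set_option backward.isDefEq.respectTransparency.types false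
set_option backward.isDefEq.respectTransparency false

universe u

open CategoryTheory CategoryTheory.Limits AlgebraicGeometry TopologicalSpace Opposite

noncomputable section

namespace Groth.L11.EmbLift

open Groth.L18.Frame (rs ro rs_rs rs_self ro_ro)
open Ideal (span)

theorem IsDiff.congr {B Z : Type u} [CommRing B] [CommRing Z] {π : B} {red : B →+* Z} {n : ℕ} {J' J'' : Ideal B}
    {φ ψ : B → Z} (d : IsDiff π red n J' J'' φ) (hJ' : Lev π red (n + 1) J')
    (h : ∀ f, red f = 0 → ψ f = φ f) : IsDiff π red n J' J'' ψ :=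
  fun f' hf' f'' hf'' a ha => (h f' (hJ'.red_eq_zero hf')).trans (d f' hf' f'' hf'' a ha)

/-- Two lifts with the same difference from a third agree. -/
theorem IsDiff.eq_of_same {B Z : Type u} [CommRing B] [CommRing Z] {π : B} {red : B →+* Z} {n : ℕ}
    {J J' K K' : Ideal B} (hJ : Lev π red n J) (hJ' : Lev π red (n + 1) J') (hK : Lev π red (n + 1) K)
    (hK' : Lev π red (n + 1) K') (h' : Over π n J J') (hk : Over π n J K) (hk' : Over π n J K') {φ : B → Z}
    (hφ : IsForm π red φ) (d : IsDiff π red n J' K φ) (d' : IsDiff π red n J' K' φ) : K = K' := by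
  obtain ⟨ψ, hψ, hd⟩ := exists_isDiff hJ hK hK' hk hk'
  refine hd.eq_of_zero hK hK' hk hk' fun f hf => ?_
  have hform : IsForm π red (φ + ψ) :=
    ⟨fun a b ha hb => by simp only [Pi.add_apply, hφ.add a b ha hb, hψ.add a b ha hb]; abel,
      fun b a ha => by simp only [Pi.add_apply, hφ.smul b a ha, hψ.smul b a ha, mul_add],
      fun b => by simp only [Pi.add_apply, hφ.pi, hψ.pi, add_zero]⟩
  have := (IsDiff.add hJ' hK h' hk hψ d hd).ext hJ' h' hk' hform hφ d' hf
  simpa using this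

/-- A list mapping to a weakly regular sequence is regular modulo the kernel. -/
theorem regMod_of_map {B B' : Type u} [CommRing B] [CommRing B'] (ρ : B →+* B') (hρ : Function.Surjective ρ)
    {π : B} (hker : RingHom.ker ρ = span {π}) {fs : List B}
    (h : RingTheory.Sequence.IsWeaklyRegular B' (fs.map ρ)) : RegMod π fs := by
  intro k hk c hc
  have hI : Ideal.ofList (fs.take k) ⊔ span {π} = (Ideal.ofList ((fs.map ρ).take k)).comap ρ := by
    rw [← List.map_take, ← Ideal.map_ofList, Ideal.comap_map_of_surjective _ hρ, ← RingHom.ker_eq_comap_bot, hker]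
  rw [hI, Ideal.mem_comap] at hc ⊢
  have hk' : k < (fs.map ρ).length := by simpa using hk
  have hreg := h.regular_mod_prev k hk'
  have e : (fs.map ρ)[k] = ρ fs[k] := List.getElem_map _
  rw [e] at hreg
  have hs : (Ideal.ofList ((fs.map ρ).take k) • (⊤ : Submodule B' B')) = Ideal.ofList ((fs.map ρ).take k) := by
    rw [smul_eq_mul, Ideal.mul_top]
  have h2 := (isSMulRegular_quotient_iff_mem_of_smul_mem _ _).1 hreg (ρ c)
  rw [hs] at h2
  exact h2 (by rw [smul_eq_mul, mul_comm, ← map_mul]; exact hc)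

theorem rs_neg {X : Scheme.{u}} {M : X.Modules} {U V : X.Opens} (h : V ≤ U) (s : Γ(M, U)) :
    rs M h (-s) = -rs M h s := map_neg (M.presheaf.map (homOfLE h).op).hom s

variable {P Pk X₀ : Scheme.{u}} (a : Pk ⟶ P) (i : X₀ ⟶ Pk) (π : Γ(P, ⊤))

/-- A chart: the subscheme is cut out by a regular sequence modulo `π`. -/
def Chart (W : P.Opens) : Prop :=
  IsAffineOpen W ∧ ∃ fs : List Γ(P, W), Ideal.ofList fs ⊔ span {piW π W} = RingHom.ker (red a i W) ∧
    RingTheory.Sequence.IsWeaklyRegular Γ(Pk, a ⁻¹ᵁ W) (fs.map (a.app W).hom)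

/-- Affine opens inside a chart. -/
def Sm (W : P.Opens) : Prop := IsAffineOpen W ∧ ∃ C, Chart a i π C ∧ W ≤ C

/-- A flat lift of level `n`. -/
def Level (n : ℕ) (J : P.IdealSheafData) : Prop :=
  ∀ (W : P.Opens) (hW : IsAffineOpen W), Sm a i π W → Lev (piW π W) (red a i W) n (J.ideal ⟨W, hW⟩)

variable [IsClosedImmersion a] [IsClosedImmersion i]

theorem red_surjective {W : P.Opens} (hW : IsAffineOpen W) : Function.Surjective (red a i W) :=
  (i.app_surjective _ (hW.preimage a)).comp (a.app_surjective _ hW)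

theorem ker_red {W : P.Opens} (hW : IsAffineOpen W) :
    RingHom.ker (red a i W) = (i ≫ a).ker.ideal ⟨W, hW⟩ := by
  rw [Scheme.Hom.ker_apply]
  refine Ideal.ext fun f => ?_
  rw [RingHom.mem_ker, RingHom.mem_ker]
  show i.app _ (a.app W f) = 0 ↔ (i ≫ a).app W f = 0
  rw [Scheme.Hom.comp_app]
  rfl

theorem map_ker_red {W W' : P.Opens} (hW : IsAffineOpen W) (hW' : IsAffineOpen W') (h : W' ≤ W) :
    (RingHom.ker (red a i W)).map (P.presheaf.map (homOfLE h).op).hom = RingHom.ker (red a i W') := by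
  rw [ker_red a i hW, ker_red a i hW']
  exact Scheme.IdealSheafData.map_ideal _ (U := ⟨W', hW'⟩) (V := ⟨W, hW⟩) h

theorem flat_ro {W W' : P.Opens} (hW : IsAffineOpen W) (hW' : IsAffineOpen W') (h : W' ≤ W) :
    (P.presheaf.map (homOfLE h).op).hom.Flat := by
  have h1 := HasRingHomProperty.appLE (P := @Flat) (𝟙 P) inferInstance ⟨W, hW⟩ ⟨W', hW'⟩ (by simpa using h)
  rwa [show (𝟙 P : P ⟶ P).appLE W W' (by simpa using h) = P.presheaf.map (homOfLE h).op by
    simp [Scheme.Hom.appLE]] at h1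

theorem Sm.mono {W W' : P.Opens} (h : Sm a i π W) (hW' : IsAffineOpen W') (hle : W' ≤ W) : Sm a i π W' :=
  ⟨hW', h.2.choose, h.2.choose_spec.1, hle.trans h.2.choose_spec.2⟩

variable {a i π}

theorem Chart.sm {W : P.Opens} (h : Chart a i π W) : Sm a i π W := ⟨h.1, W, h, le_rfl⟩

theorem lev_map {W W' : P.Opens} (hW : IsAffineOpen W) (hW' : IsAffineOpen W') (h : W' ≤ W) {n : ℕ}
    {J : Ideal Γ(P, W)} (hJ : Lev (piW π W) (red a i W) n J) :
    Lev (piW π W') (red a i W') n (J.map (P.presheaf.map (homOfLE h).op).hom) := by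
  have := hJ.map (P.presheaf.map (homOfLE h).op).hom (red' := red a i W') (flat_ro hW hW' h) (map_ker_red a i hW hW' h)
  rwa [show (P.presheaf.map (homOfLE h).op).hom (piW π W) = piW π W' from ro_ro le_top h π] at this

theorem over_map {W W' : P.Opens} (h : W' ≤ W) {n : ℕ} {J J' : Ideal Γ(P, W)} (hJ : Over (piW π W) n J J') :
    Over (piW π W') n (J.map (P.presheaf.map (homOfLE h).op).hom) (J'.map (P.presheaf.map (homOfLE h).op).hom) := by
  have := hJ.map (P.presheaf.map (homOfLE h).op).hom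
  rwa [show (P.presheaf.map (homOfLE h).op).hom (piW π W) = piW π W' from ro_ro le_top h π] at this

/-- The restriction of an ideal. -/
abbrev rI {W W' : P.Opens} (h : W' ≤ W) (J : Ideal Γ(P, W)) : Ideal Γ(P, W') :=
  J.map (P.presheaf.map (homOfLE h).op).hom

theorem rI_rI {W W' W'' : P.Opens} (h : W' ≤ W) (h' : W'' ≤ W') (J : Ideal Γ(P, W)) :
    rI h' (rI h J) = rI (h'.trans h) J := by
  rw [rI, rI, rI, Ideal.map_map, ← CommRingCat.hom_comp, ← Functor.map_comp]
  rfl

variable (hπ : ∀ W : P.Opens, IsAffineOpen W → RingHom.ker (a.app W).hom = span {piW π W})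

theorem diff_restrict {W W' : P.Opens} (hW : IsAffineOpen W) (hW' : IsAffineOpen W') (h : W' ≤ W) {n : ℕ}
    {J J' J'' : Ideal Γ(P, W)} (hJ : Lev (piW π W) (red a i W) n J) (hJ' : Lev (piW π W) (red a i W) (n + 1) J')
    (hJ'' : Lev (piW π W) (red a i W) (n + 1) J'') (h' : Over (piW π W) n J J') (h'' : Over (piW π W) n J J'')
    (t : Γ(NN i, zW a i W))
    (hπ : ∀ W : P.Opens, IsAffineOpen W → RingHom.ker (a.app W).hom = span {piW π W})
    (d : IsDiff (piW π W) (red a i W) n J' J'' (nu a i W t)) :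
    IsDiff (piW π W') (red a i W') n (rI h J') (rI h J'')
      (nu a i W' (rs (NN i) (i.preimage_mono (a.preimage_mono h)) t)) := by
  obtain ⟨φ', hφ', hd'⟩ := exists_isDiff (lev_map hW hW' h hJ) (lev_map hW hW' h hJ') (lev_map hW hW' h hJ'')
    (over_map h h') (over_map h h'')
  set t' := rs (NN i) (i.preimage_mono (a.preimage_mono h)) t with ht'
  have hν := isForm_nu hπ hW' t'
  refine hd'.congr (lev_map hW hW' h hJ') fun f hf => ?_
  have hf' : f ∈ (RingHom.ker (red a i W)).map (P.presheaf.map (homOfLE h).op).hom := by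
    rw [map_ker_red a i hW hW' h]
    exact hf
  suffices H : ∀ x ∈ Submodule.span Γ(P, W') ((P.presheaf.map (homOfLE h).op).hom '' (RingHom.ker (red a i W) : Set Γ(P, W))),
      red a i W' x = 0 ∧ nu a i W' t' x = φ' x from (H f hf').2
  intro x hx
  induction hx using Submodule.span_induction with
  | mem x hx =>
    obtain ⟨g, hg, rfl⟩ := hx
    have hg0 : red a i W g = 0 := hg
    refine ⟨(red_ro a i h g).trans ((congrArg _ hg0).trans (map_zero _)), ?_⟩
    refine (nu_rs hW hW' h t hg0).trans ?_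
    have hpi : (P.presheaf.map (homOfLE h).op).hom (piW π W) = piW π W' := ro_ro le_top h π
    refine (IsDiff.map_apply (red' := red a i W') (P.presheaf.map (homOfLE h).op).hom
      (r := (X₀.presheaf.map (homOfLE (i.preimage_mono (a.preimage_mono h))).op).hom) (fun b => red_ro a i h b)
      hJ' h' h'' (isForm_nu hπ hW t) (hpi.symm ▸ hφ') d (hpi.symm ▸ hd') hg0).symm
  | zero => exact ⟨map_zero _, by rw [show (0 : Γ(P, W')) = piW π W' * 0 by rw [mul_zero], hν.pi, hφ'.pi]⟩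
  | add x y _ _ ihx ihy =>
    exact ⟨by rw [map_add, ihx.1, ihy.1, add_zero], by rw [hν.add x y ihx.1 ihy.1, hφ'.add x y ihx.1 ihy.1, ihx.2, ihy.2]⟩
  | smul c x _ ih =>
    exact ⟨by rw [smul_eq_mul, map_mul, ih.1, mul_zero],
      by rw [smul_eq_mul, hν.smul c x ih.1, hφ'.smul c x ih.1, ih.2]⟩

variable (a i π) in
theorem exists_chart (hreg : Mor2.IsRegularClosedImmersion i)
    (hπ : ∀ W : P.Opens, IsAffineOpen W → RingHom.ker (a.app W).hom = span {piW π W}) (z : P) :
    ∃ W, Chart a i π W ∧ z ∈ W := by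
  by_cases hz : z ∈ Set.range (i ≫ a)
  · obtain ⟨x, rfl⟩ := hz
    obtain ⟨U, hU, hxU, gs, hgs, hgen⟩ := hreg.2 x
    obtain ⟨V, hV, hVU⟩ := a.isEmbedding.isInducing.isOpen_iff.1 U.2
    obtain ⟨W, hW, hxW, hle⟩ := exists_isAffineOpen_mem_and_subset (x := (i ≫ a) x) (U := ⟨V, hV⟩) (by
      show a (i x) ∈ V
      exact (Set.ext_iff.1 hVU (i x)).2 hxU)
    have hWU : a ⁻¹ᵁ W ≤ U := fun y hy => (Set.ext_iff.1 hVU y).1 (hle hy)
    letI : Algebra Γ(Pk, U) Γ(Pk, a ⁻¹ᵁ W) := (Pk.presheaf.map (homOfLE hWU).op).hom.toAlgebra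
    haveI : Module.Flat Γ(Pk, U) Γ(Pk, a ⁻¹ᵁ W) := by
      have h1 := HasRingHomProperty.appLE (P := @Flat) (𝟙 Pk) inferInstance ⟨U, hU⟩ ⟨_, hW.preimage a⟩
        (by simpa using hWU)
      rwa [show (𝟙 Pk : Pk ⟶ Pk).appLE U (a ⁻¹ᵁ W) (by simpa using hWU) = Pk.presheaf.map (homOfLE hWU).op by
        simp [Scheme.Hom.appLE]] at h1
    choose lift hlift using a.app_surjective W hW
    let fs := (gs.map (algebraMap Γ(Pk, U) Γ(Pk, a ⁻¹ᵁ W))).map lift
    have hfs : fs.map (a.app W).hom = gs.map (algebraMap Γ(Pk, U) Γ(Pk, a ⁻¹ᵁ W)) := by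
      simp only [fs, List.map_map]
      exact List.map_congr_left fun g _ => hlift _
    refine ⟨W, ⟨hW, fs, ?_, by rw [hfs]; exact hgs.toIsWeaklyRegular.of_flat⟩, hxW⟩
    rw [← hπ W hW, RingHom.ker_eq_comap_bot, ← Ideal.comap_map_of_surjective _ (a.app_surjective W hW),
      Ideal.map_ofList, hfs, ← Ideal.map_ofList, ← hgen]
    rw [show (algebraMap Γ(Pk, U) Γ(Pk, a ⁻¹ᵁ W)) = (Pk.presheaf.map (homOfLE hWU).op).hom from rfl]
    erw [Scheme.IdealSheafData.map_ideal i.ker (U := ⟨_, hW.preimage a⟩) (V := ⟨U, hU⟩) hWU]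
    rw [Scheme.Hom.ker_apply, RingHom.comap_ker]
    rfl
  · obtain ⟨W, hW, hzW, hle⟩ := exists_isAffineOpen_mem_and_subset (x := z)
      (U := ⟨(Set.range (i ≫ a))ᶜ, (i ≫ a).isClosedEmbedding.isClosed_range.isOpen_compl⟩) hz
    refine ⟨W, ⟨hW, [1], ?_, ?_⟩, hzW⟩
    · have hbot : zW a i W = ⊥ := by
        ext y
        exact ⟨fun hy => hle hy ⟨y, rfl⟩, fun hy => hy.elim⟩
      haveI : Subsingleton Γ(X₀, zW a i W) := by rw [hbot]; infer_instance
      rw [Ideal.ofList_singleton, Ideal.span_singleton_one, top_sup_eq]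
      exact (eq_top_iff.2 fun f _ => Subsingleton.elim _ _).symm
    · rw [List.map_singleton, map_one, RingTheory.Sequence.isWeaklyRegular_cons_iff]
      exact ⟨IsSMulRegular.one _, RingTheory.Sequence.IsWeaklyRegular.nil _ _⟩

include hπ in
/-- A flat lift of the next level. -/
theorem exists_next [P.IsSeparated] (hreg : Mor2.IsRegularClosedImmersion i)
    (hπr : ∀ W : P.Opens, IsAffineOpen W → IsSMulRegular Γ(P, W) (piW π W))
    (h1 : Subsingleton (Coh.HH X₀ (NN i) 1)) {n : ℕ} {J : P.IdealSheafData} (hJ : Level a i π n J) :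
    ∃ J' : P.IdealSheafData, Level a i π (n + 1) J' ∧
      ∀ (W : P.Opens) (hW : IsAffineOpen W), Sm a i π W → Over (piW π W) n (J.ideal ⟨W, hW⟩) (J'.ideal ⟨W, hW⟩) := by
  let κ := {W : P.Opens // Chart a i π W}
  have hsurj : ∀ W : P.Opens, IsAffineOpen W → Function.Surjective (a.app W) := fun W hW => a.app_surjective W hW
  have hloc : ∀ c : κ, ∃ J', Lev (piW π c.1) (red a i c.1) (n + 1) J' ∧
      Over (piW π c.1) n (J.ideal ⟨c.1, c.2.1⟩) J' := by
    rintro ⟨W, hc⟩
    obtain ⟨hW, gs, hgen, hgs⟩ := id hc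
    have hJW := hJ W hW hc.sm
    have hpick : ∀ g : Γ(P, W), ∃ f, g ∈ RingHom.ker (red a i W) → f ∈ J.ideal ⟨W, hW⟩ ∧ a.app W f = a.app W g := by
      intro g
      by_cases hg : g ∈ RingHom.ker (red a i W)
      · rw [← hJW.sup_eq] at hg
        obtain ⟨f, hf, y, hy, he⟩ := Submodule.mem_sup.1 hg
        refine ⟨f, fun _ => ⟨hf, ?_⟩⟩
        rw [← he, map_add, show a.app W y = 0 from (hπ W hW).ge hy, add_zero]
      · exact ⟨0, fun h => absurd h hg⟩
    choose pick hp using hpick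
    have hmem : ∀ g ∈ gs, g ∈ RingHom.ker (red a i W) := fun g hg =>
      hgen ▸ Submodule.mem_sup_left (Ideal.subset_span hg)
    have hfs : (gs.map pick).map (a.app W).hom = gs.map (a.app W).hom := by
      rw [List.map_map]
      exact List.map_congr_left fun g hg => (hp g (hmem g hg)).2
    refine exists_lev_succ hJW (hπr W hW) (fs := gs.map pick) ?_ ?_ ?_
    · intro f hf
      obtain ⟨g, hg, rfl⟩ := List.mem_map.1 hf
      exact (hp g (hmem g hg)).1
    · rw [← hgen, ← hπ W hW, RingHom.ker_eq_comap_bot, ← Ideal.comap_map_of_surjective _ (hsurj W hW),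
        ← Ideal.comap_map_of_surjective _ (hsurj W hW), Ideal.map_ofList, Ideal.map_ofList, hfs]
    · refine regMod_of_map (a.app W).hom (hsurj W hW) (hπ W hW) ?_
      rw [hfs]
      exact hgs
  choose J' hJ' hov using hloc
  have hi2 : ∀ c d : κ, IsAffineOpen (c.1 ⊓ d.1) := fun c d => c.2.1.inf d.2.1
  have hl : ∀ {c : κ} {W : P.Opens} (hW : IsAffineOpen W) (h : W ≤ c.1),
      Lev (piW π W) (red a i W) (n + 1) (rI h (J' c)) ∧ Over (piW π W) n (J.ideal ⟨W, hW⟩) (rI h (J' c)) ∧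
        Lev (piW π W) (red a i W) n (J.ideal ⟨W, hW⟩) := fun {c W} hW h => by
    refine ⟨lev_map c.2.1 hW h (hJ' c), ?_, hJ W hW (Sm.mono a i π c.2.sm hW h)⟩
    have := over_map (π := π) h (hov c)
    erw [Scheme.IdealSheafData.map_ideal J (U := ⟨W, hW⟩) (V := ⟨c.1, c.2.1⟩) h] at this
    exact this
  have hdiff : ∀ c d : κ, ∃ t : Γ(NN i, zW a i (c.1 ⊓ d.1)), IsDiff (piW π _) (red a i _) n
      (rI inf_le_left (J' c)) (rI inf_le_right (J' d)) (nu a i _ t) := by
    intro c d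
    obtain ⟨hc, hoc, hJW⟩ := hl (c := c) (hi2 c d) inf_le_left
    obtain ⟨hd, hod, -⟩ := hl (c := d) (hi2 c d) inf_le_right
    obtain ⟨φ, hφ, hφd⟩ := exists_isDiff hJW hc hd hoc hod
    obtain ⟨t, ht⟩ := exists_nu_eq hπ hsurj (hi2 c d) hφ
    exact ⟨t, hφd.congr hc ht⟩
  choose t ht using hdiff
  have htW : ∀ (c d : κ) (W : P.Opens) (hW : IsAffineOpen W) (hc : W ≤ c.1) (hd : W ≤ d.1),
      IsDiff (piW π W) (red a i W) n (rI hc (J' c)) (rI hd (J' d))
        (nu a i W (rs (NN i) (i.preimage_mono (a.preimage_mono (le_inf hc hd))) (t c d))) := by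
    intro c d W hW hc hd
    obtain ⟨h1, h2, h3⟩ := hl (c := c) (hi2 c d) inf_le_left
    obtain ⟨h4, h5, -⟩ := hl (c := d) (hi2 c d) inf_le_right
    have := diff_restrict (hi2 c d) hW (le_inf hc hd) h3 h1 h4 h2 h5 (t c d) hπ (ht c d)
    rwa [rI_rI, rI_rI] at this
  let U : κ → X₀.Opens := fun c => zW a i c.1
  have hUc : ⨆ c, U c = ⊤ := top_le_iff.1 fun x _ => by
    obtain ⟨W, hW, hx⟩ := exists_chart a i π hreg hπ ((i ≫ a) x)
    exact Opens.mem_iSup.2 ⟨⟨W, hW⟩, hx⟩
  obtain ⟨β, hβ⟩ := Groth.L12.LineLift.exists_coboundary₁ U (NN i) hUc h1 (fun c d => t c d) (by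
    intro b c d W hb hc hd
    let Q := b.1 ⊓ c.1 ⊓ d.1
    have hQ : IsAffineOpen Q := (hi2 b c).inf d.2.1
    have qb : Q ≤ b.1 := inf_le_left.trans inf_le_left
    have qc : Q ≤ c.1 := inf_le_left.trans inf_le_right
    have qd : Q ≤ d.1 := inf_le_right
    obtain ⟨hb1, hb2, -⟩ := hl (c := b) hQ qb
    obtain ⟨hc1, hc2, -⟩ := hl (c := c) hQ qc
    obtain ⟨hd1, hd2, -⟩ := hl (c := d) hQ qd
    have hadd := IsDiff.add hb1 hc1 hb2 hc2 (isForm_nu hπ hQ _) (htW b c Q hQ qb qc) (htW c d Q hQ qc qd)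
    have e : rs (NN i) (i.preimage_mono (a.preimage_mono (le_inf qb qc))) (t b c) +
        rs (NN i) (i.preimage_mono (a.preimage_mono (le_inf qc qd))) (t c d) =
        rs (NN i) (i.preimage_mono (a.preimage_mono (le_inf qb qd))) (t b d) := by
      refine nu_inj hsurj hQ fun f hf => ?_
      rw [nu_add]
      refine IsDiff.ext hb1 hb2 hd2 ?_ (isForm_nu hπ hQ _) hadd (htW b d Q hQ qb qd) hf
      have := isForm_nu hπ hQ (rs (NN i) (i.preimage_mono (a.preimage_mono (le_inf qb qc))) (t b c) +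
        rs (NN i) (i.preimage_mono (a.preimage_mono (le_inf qc qd))) (t c d))
      rwa [show nu a i Q (_ + _) = _ from funext fun f => nu_add a i Q _ _ f] at this
    have hWQ : W ≤ zW a i Q := le_inf (le_inf hb hc) hd
    have e' := congrArg (fun s => rs (NN i) hWQ s) e
    simp only [map_add, rs_rs] at e'
    exact (fun {x y z : Γ(NN i, W)} (h : x + y = z) => (by rw [← h]; abel : y - z + x = 0)) e')
  -- twist the chosen lifts
  have htw : ∀ c : κ, ∃ K, Lev (piW π c.1) (red a i c.1) (n + 1) K ∧ Over (piW π c.1) n (J.ideal ⟨c.1, c.2.1⟩) K ∧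
      IsDiff (piW π c.1) (red a i c.1) n (J' c) K (nu a i c.1 (-(β c))) := fun c =>
    exists_twist (hJ _ c.2.1 c.2.sm) (hJ' c) (hov c) (isForm_nu hπ c.2.1 _) (red_surjective a i c.2.1)
  choose K hK hKov hKd using htw
  have heq : ∀ c d : κ, rI (inf_le_left : c.1 ⊓ d.1 ≤ c.1) (K c) = rI inf_le_right (K d) := by
    intro c d
    have hQ := hi2 c d
    obtain ⟨hc1, hc2, hJW⟩ := hl (c := c) hQ inf_le_left
    obtain ⟨hd1, hd2, -⟩ := hl (c := d) hQ inf_le_right
    have hov' : ∀ {e : κ} (h : c.1 ⊓ d.1 ≤ e.1), Over (piW π _) n (J.ideal ⟨_, hQ⟩) (rI h (K e)) := fun {e} h => by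
      have := over_map (π := π) h (hKov e)
      erw [Scheme.IdealSheafData.map_ideal J (U := ⟨_, hQ⟩) (V := ⟨e.1, e.2.1⟩) h] at this
      exact this
    have d1 := diff_restrict c.2.1 hQ inf_le_left (hJ _ c.2.1 c.2.sm) (hJ' c) (hK c) (hov c) (hKov c) _ hπ (hKd c)
    have d2 := diff_restrict d.2.1 hQ inf_le_right (hJ _ d.2.1 d.2.sm) (hJ' d) (hK d) (hov d) (hKov d) _ hπ (hKd d)
    have d3 := IsDiff.add hc1 hd1 hc2 hd2 (isForm_nu hπ hQ _) (ht c d) d2
    refine IsDiff.eq_of_same hJW hc1 (lev_map c.2.1 hQ inf_le_left (hK c)) (lev_map d.2.1 hQ inf_le_right (hK d))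
      hc2 (hov' inf_le_left) (hov' inf_le_right) (isForm_nu hπ hQ _) d1 (d3.congr hc1 fun f hf => ?_)
    rw [Pi.add_apply, ← nu_add]
    refine congrArg (fun s => nu a i _ s f) ?_
    have hb := hβ c d (zW a i (c.1 ⊓ d.1)) (i.preimage_mono (a.preimage_mono inf_le_left))
      (i.preimage_mono (a.preimage_mono inf_le_right))
    rw [rs_self] at hb
    rw [hb, rs_neg, rs_neg]
    abel
  let j : ∀ c : κ, c.1.toScheme ⟶ P := fun c => c.1.ι
  let Kc : ∀ c : κ, c.1.toScheme.IdealSheafData := fun c =>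
    Scheme.IdealSheafData.ofIdealTop ((K c).map c.1.topIso.inv.hom)
  have hKc : ∀ (c d : κ), (Kc c).comap (pullback.fst (j c) (j d)) = (Kc d).comap (pullback.snd (j c) (j d)) := by
    intro c d
    have sq := isPullback_opens_inf c.1 d.1
    haveI : IsAffine (c.1 ⊓ d.1).toScheme := hi2 c d
    haveI : IsAffine c.1.toScheme := c.2.1
    haveI : IsAffine d.1.toScheme := d.2.1
    rw [show pullback.fst (j c) (j d) = sq.isoPullback.inv ≫ P.homOfLE inf_le_left from sq.isoPullback_inv_fst.symm,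
      show pullback.snd (j c) (j d) = sq.isoPullback.inv ≫ P.homOfLE inf_le_right from sq.isoPullback_inv_snd.symm,
      Scheme.IdealSheafData.comap_comp, Scheme.IdealSheafData.comap_comp]
    congr 1
    refine Scheme.IdealSheafData.ext_of_isAffine ?_
    rw [Groth.L22.Ideals.comap_ideal_top, Groth.L22.Ideals.comap_ideal_top]
    have key : ∀ (e : κ) (h : c.1 ⊓ d.1 ≤ e.1),
        ((Kc e).ideal ⟨⊤, haveI : IsAffine e.1.toScheme := e.2.1; isAffineOpen_top _⟩).map (P.homOfLE h).appTop.hom =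
          (rI h (K e)).map (c.1 ⊓ d.1).topIso.inv.hom := fun e h => by
      rw [show (Kc e).ideal ⟨⊤, _⟩ = _ from Scheme.IdealSheafData.ofIdealTop_ideal _ _, Ideal.map_map, Ideal.map_map,
        rI, Ideal.map_map, ← CommRingCat.hom_comp, ← CommRingCat.hom_comp, ← CommRingCat.hom_comp]
      refine congrArg (fun k => (K e).map (CommRingCat.Hom.hom k)) ?_
      rw [Scheme.homOfLE_appTop, Scheme.Opens.topIso_inv, Scheme.Opens.topIso_inv, Scheme.Opens.toScheme_presheaf_map]
      simp only [← Functor.map_comp]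
      rfl
    rw [key c inf_le_left, key d inf_le_right, heq]
  obtain ⟨JJ, hJJ⟩ := Groth.L02.Hilb.exists_glue j Kc (fun x => by
    obtain ⟨W, hW, hx⟩ := exists_chart a i π hreg hπ x
    exact ⟨⟨W, hW⟩, ⟨⟨x, hx⟩, rfl⟩⟩) hKc
  have hJK : ∀ c : κ, JJ.ideal ⟨c.1, c.2.1⟩ = K c := fun c => by
    refine Groth.L22.Ideals.map_hom_inj c.1.topIso.symm ?_
    have h := Groth.L22.Ideals.comap_ideal_ι JJ ⟨c.1, c.2.1⟩
    rw [show JJ.comap c.1.ι = Kc c from hJJ c] at h
    refine h.symm.trans ?_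
    rw [show (Kc c).ideal ⟨⊤, _⟩ = _ from Scheme.IdealSheafData.ofIdealTop_ideal _ _]
    simp
    exact Ideal.map_id _
  refine ⟨JJ, fun W hW hs => ?_, fun W hW hs => ?_⟩
  all_goals obtain ⟨-, C, hC, hle⟩ := id hs
  · rw [← Scheme.IdealSheafData.map_ideal JJ (U := ⟨W, hW⟩) (V := ⟨C, hC.1⟩) hle, hJK ⟨C, hC⟩]
    exact lev_map hC.1 hW hle (hK ⟨C, hC⟩)
  · rw [← Scheme.IdealSheafData.map_ideal JJ (U := ⟨W, hW⟩) (V := ⟨C, hC.1⟩) hle, hJK ⟨C, hC⟩,
      ← Scheme.IdealSheafData.map_ideal J (U := ⟨W, hW⟩) (V := ⟨C, hC.1⟩) hle]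
    exact over_map hle (hKov ⟨C, hC⟩)

end Groth.L11.EmbLift
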