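import Groth.Agent.L11.EmbLift.Step
import Groth.Agent.L17.ThickBasic
import Groth.Agent.L16.Exist.AlgClosed
import Groth.Agent.L02.RelCartier.Main
import Groth.Agent.L16.ProjSpace.Basic
import Mathlib.RingTheory.Filtration
import Mathlib.RingTheory.DedekindDomain.Dvr
import Mathlib.RingTheory.Flat.TorsionFree

/-! # Algebraisation of a system of flat lifts of an embedded subscheme -/

set_option autoImplicit false
set_option linter.style.haveILetI false
set_option linter.unusedSectionVars false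
set_option backward.isDefEq.respectTransparency.types false
set_option backward.isDefEq.respectTransparency false

universe u

open CategoryTheory CategoryTheory.Limits AlgebraicGeometry TopologicalSpace Opposite

noncomputable section

namespace Groth.L11.EmbLift

open Groth.L18.Frame (rs ro rs_rs rs_self ro_ro)
open Ideal (span)

variable {R : Type u} [CommRing R] {P : Scheme.{u}} (q : P ⟶ Spec (CommRingCat.of R))

/-- An element of the base as a function. -/
abbrev glob (x : R) : Γ(P, ⊤) := q.appTop ((Scheme.ΓSpecIso (CommRingCat.of R)).inv x)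

theorem appLE_top_eq (W : P.Opens) (c : Γ(Spec (CommRingCat.of R), ⊤)) :
    q.appLE ⊤ W le_top c = ro le_top (q.appTop c) := rfl

theorem piW_glob_eq (x : R) (W : P.Opens) :
    piW (glob q x) W = ((q.appLE ⊤ W le_top).hom.comp (Scheme.ΓSpecIso (CommRingCat.of R)).inv.hom) x := rfl

theorem piW_glob_pow (x : R) (n : ℕ) (W : P.Opens) : piW (glob q (x ^ n)) W = piW (glob q x) W ^ n := by
  rw [piW_glob_eq, piW_glob_eq, map_pow]

theorem comap_ker_ideal {R' : Type u} [CommRing R'] (f : R →+* R') (hf : Function.Surjective f) {x : R}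
    (hk : RingHom.ker f = span {x}) {W : P.Opens} (hW : IsAffineOpen W) :
    ((Spec.map (CommRingCat.ofHom f)).ker.comap q).ideal ⟨W, hW⟩ = span {piW (glob q x) W} := by
  haveI : IsClosedImmersion (Spec.map (CommRingCat.ofHom f)) := IsClosedImmersion.spec_of_surjective _ hf
  have h : (Spec.map (CommRingCat.ofHom f)).ker.ideal ⟨⊤, isAffineOpen_top _⟩ =
      span {(Scheme.ΓSpecIso (CommRingCat.of R)).inv x} := by
    rw [Scheme.Hom.ker_apply]
    refine Ideal.ext fun c => ?_
    obtain ⟨r, rfl⟩ := (ConcreteCategory.bijective_of_isIso (Scheme.ΓSpecIso (CommRingCat.of R)).inv).2 c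
    have e : (Spec.map (CommRingCat.ofHom f)).appTop ((Scheme.ΓSpecIso (CommRingCat.of R)).inv r) =
        (Scheme.ΓSpecIso (CommRingCat.of R')).inv (f r) :=
      (ConcreteCategory.congr_hom (Scheme.ΓSpecIso_inv_naturality (CommRingCat.ofHom f)) r).symm
    rw [RingHom.mem_ker]
    refine Iff.trans (b := f r = 0) ?_ ?_
    · rw [show (Spec.map (CommRingCat.ofHom f)).app ⊤ _ = _ from e]
      exact map_eq_zero_iff _ (ConcreteCategory.bijective_of_isIso (Scheme.ΓSpecIso (CommRingCat.of R')).inv).1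
    · rw [← RingHom.mem_ker, hk, Ideal.mem_span_singleton', Ideal.mem_span_singleton']
      constructor
      · rintro ⟨d, rfl⟩
        exact ⟨_, (map_mul _ _ _).symm⟩
      · rintro ⟨d, hd⟩
        obtain ⟨d, rfl⟩ := (ConcreteCategory.bijective_of_isIso (Scheme.ΓSpecIso (CommRingCat.of R)).inv).2 d
        exact ⟨d, (ConcreteCategory.bijective_of_isIso (Scheme.ΓSpecIso (CommRingCat.of R)).inv).1
          ((map_mul _ _ _).trans hd)⟩
  rw [Groth.L22.Ideals.comap_ideal q _ ⟨⊤, isAffineOpen_top _⟩ ⟨W, hW⟩ le_top, h, Ideal.map_span,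
    Set.image_singleton]
  rfl

theorem ext_of_affine_cover {X : Scheme.{u}} {ι : Type*} (W : ι → X.affineOpens) (cov : ∀ x : X, ∃ i, x ∈ (W i).1)
    {I I' : X.IdealSheafData} (h : ∀ i, I.ideal (W i) = I'.ideal (W i)) : I = I' := by
  refine Groth.L02.Hilb.ext_of_openCover (fun i => (W i).1.ι) (fun x => ?_) fun i => ?_
  · obtain ⟨i, hi⟩ := cov x
    exact ⟨i, ⟨⟨x, hi⟩, rfl⟩⟩
  · haveI : IsAffine (W i).1.toScheme := (W i).2
    refine Scheme.IdealSheafData.ext_of_isAffine ?_
    rw [Groth.L22.Ideals.comap_ideal_ι, Groth.L22.Ideals.comap_ideal_ι, h]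

theorem comap_ker_self {X Y : Scheme.{u}} (f : X ⟶ Y) : f.ker.comap f = ⊥ := by
  refine le_bot_iff.1 (Scheme.IdealSheafData.le_map_iff_comap_le.1 ?_)
  rw [Scheme.IdealSheafData.map_bot]

theorem ker_comp_comap_mono {X Y Z : Scheme.{u}} (f : X ⟶ Y) (g : Y ⟶ Z) [Mono g] [IsClosedImmersion (f ≫ g)] :
    (f ≫ g).ker.comap g = f.ker := by
  have sq : IsPullback f (𝟙 X) g (f ≫ g) := by
    refine IsPullback.of_isLimit' ⟨by simp⟩ (PullbackCone.IsLimit.mk _ (fun t => t.snd)
      (fun t => ?_) (fun t => Category.comp_id _) fun t m _ h => ?_)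
    · rw [← cancel_mono g, Category.assoc]
      exact t.condition.symm
    · simpa using h
  exact (Groth.L17.Thick.ker_of_isPullback sq).symm

variable [IsDomain R] [IsDiscreteValuationRing R] [IsAdicComplete (IsLocalRing.maximalIdeal R) R]


variable {x : R} (hx : (IsLocalRing.maximalIdeal R) = span {x})

include hx in
theorem ker_mk_pow (n : ℕ) : RingHom.ker (Ideal.Quotient.mk ((IsLocalRing.maximalIdeal R) ^ (n + 1))) = span {x ^ (n + 1)} := by
  rw [Ideal.mk_ker, hx, Ideal.span_singleton_pow]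

include hx in
theorem ker_residue' : RingHom.ker (IsLocalRing.residue R) = span {x} := by
  rw [show RingHom.ker (IsLocalRing.residue R) = (IsLocalRing.maximalIdeal R) from Ideal.mk_ker, hx]

include hx in
theorem piW_regular [Flat q] (W : P.Opens) (hW : IsAffineOpen W) : IsSMulRegular Γ(P, W) (piW (glob q x) W) := by
  have hflat : ((q.appLE ⊤ W le_top).hom.comp (Scheme.ΓSpecIso (CommRingCat.of R)).inv.hom).Flat :=
    RingHom.Flat.comp (RingHom.Flat.of_bijective (ConcreteCategory.bijective_of_isIso (Scheme.ΓSpecIso (CommRingCat.of R)).inv))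
      (HasRingHomProperty.appLE (P := @Flat) q inferInstance ⟨⊤, isAffineOpen_top _⟩ ⟨W, hW⟩ le_top)
  letI := ((q.appLE ⊤ W le_top).hom.comp (Scheme.ΓSpecIso (CommRingCat.of R)).inv.hom).toAlgebra
  haveI : Module.Flat R Γ(P, W) := hflat
  have hx0 : x ≠ 0 := fun h => IsDiscreteValuationRing.not_a_field R (by rw [hx, h, Ideal.span_singleton_eq_bot.2 rfl])
  intro b c h
  have hinj := Module.Flat.isSMulRegular_of_isRegular (M := Γ(P, W)) (IsRegular.of_ne_zero hx0)
  exact hinj (show x • b = x • c by rw [Algebra.smul_def, Algebra.smul_def]; exact h)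

/-- An algebraisation of a compatible system of flat lifts is flat and restricts to the given levels. -/
theorem exists_algebraization [IsProper q] (Js : ℕ → P.IdealSheafData) {κ : Type*} (W : κ → P.affineOpens)
    (cov : ∀ z : P, ∃ c, z ∈ (W c).1) (hx : (IsLocalRing.maximalIdeal R) = span {x})
    (hpow : ∀ n c, piW (glob q x) (W c).1 ^ (n + 1) ∈ (Js n).ideal (W c))
    (hflat : ∀ n c b, piW (glob q x) (W c).1 * b ∈ (Js n).ideal (W c) →
      b ∈ (Js n).ideal (W c) ⊔ span {piW (glob q x) (W c).1 ^ n})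
    (hover : ∀ n c, (Js (n + 1)).ideal (W c) ⊔ span {piW (glob q x) (W c).1 ^ (n + 1)} = (Js n).ideal (W c)) :
    ∃ 𝒴 : P.IdealSheafData, Flat (𝒴.subschemeι ≫ q) ∧
      ∀ n, Js n = 𝒴 ⊔ (CohB1.specQuot (IsLocalRing.maximalIdeal R) n).ker.comap q := by
  haveI : IsNoetherianRing R := inferInstance
  let PI : ℕ → P.IdealSheafData := fun n => (CohB1.specQuot (IsLocalRing.maximalIdeal R) n).ker.comap q
  have hPi : ∀ n c, (PI n).ideal (W c) = span {piW (glob q x) (W c).1 ^ (n + 1)} := fun n c => by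
    rw [← piW_glob_pow]
    exact comap_ker_ideal q _ Ideal.Quotient.mk_surjective (ker_mk_pow hx n) (W c).2
  have hJ : ∀ n, Js (n + 1) ⊔ PI n = Js n := fun n => ext_of_affine_cover W cov fun c => by
    rw [Scheme.IdealSheafData.ideal_sup, Pi.sup_apply, hPi, hover]
  have hle : ∀ n, PI n ≤ Js n := fun n => by rw [← hJ n]; exact le_sup_right
  have hmono : ∀ n, Js (n + 1) ≤ Js n := fun n => by rw [← hJ n]; exact le_sup_left
  haveI hcq : ∀ n, IsClosedImmersion (CohB1.specQuot (IsLocalRing.maximalIdeal R) n) :=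
    fun n => Groth.L16.Exist.Adic.isClosedImmersion_specQuot (IsLocalRing.maximalIdeal R) n
  let Xs : ℕ → Scheme.{u} := fun n => (Js n).subscheme
  have hker : ∀ n, (CohB1.specQuot (IsLocalRing.maximalIdeal R) n).ker ≤ ((Js n).subschemeι ≫ q).ker := fun n => by
    rw [Groth.L02.Hilb.le_ker_comp_iff, Scheme.IdealSheafData.ker_subschemeι]
    exact hle n
  let fs : ∀ n, Xs n ⟶ Spec (CommRingCat.of (R ⧸ (IsLocalRing.maximalIdeal R) ^ (n + 1))) := fun n =>
    IsClosedImmersion.lift (CohB1.specQuot (IsLocalRing.maximalIdeal R) n) ((Js n).subschemeι ≫ q) (hker n)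
  have hfs : ∀ n, fs n ≫ CohB1.specQuot (IsLocalRing.maximalIdeal R) n = (Js n).subschemeι ≫ q := fun n => IsClosedImmersion.lift_fac _ _ _
  let ts : ∀ n, Xs n ⟶ Xs (n + 1) := fun n => Scheme.IdealSheafData.inclusion (hmono n)
  have hts : ∀ n, ts n ≫ (Js (n + 1)).subschemeι = (Js n).subschemeι := fun n =>
    Scheme.IdealSheafData.inclusion_subschemeι _
  have hcart : ∀ n, IsPullback (ts n) (fs n) (fs (n + 1)) (CohB1.specQuotTrans (IsLocalRing.maximalIdeal R) n) := fun n => by
    haveI : IsClosedImmersion (ts n ≫ (Js (n + 1)).subschemeι) := by rw [hts]; infer_instance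
    haveI : IsClosedImmersion (ts n) := IsClosedImmersion.of_comp (ts n) (Js (n + 1)).subschemeι
    have h1 : IsPullback (ts n) (fs n) (fs (n + 1) ≫ CohB1.specQuot (IsLocalRing.maximalIdeal R) (n + 1)) (CohB1.specQuot (IsLocalRing.maximalIdeal R) n) := by
      rw [hfs (n + 1)]
      refine isPullback_of_isClosedImmersion _ _ _ _ (by rw [reassoc_of% (hts n), hfs]) ?_
      rw [← ker_comp_comap_mono (ts n) (Js (n + 1)).subschemeι, hts, Scheme.IdealSheafData.ker_subschemeι,
        ← hJ n, Scheme.IdealSheafData.comap_sup, Scheme.IdealSheafData.comap_comp]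
      have hb := comap_ker_self (Js (n + 1)).subschemeι
      rw [Scheme.IdealSheafData.ker_subschemeι] at hb
      rw [hb, bot_sup_eq]
    have h2 : IsPullback (CohB1.specQuotTrans (IsLocalRing.maximalIdeal R) n) (𝟙 _) (CohB1.specQuot (IsLocalRing.maximalIdeal R) (n + 1)) (CohB1.specQuot (IsLocalRing.maximalIdeal R) n) := by
      refine IsPullback.of_isLimit' ⟨by simp⟩ (PullbackCone.IsLimit.mk _ (fun t => t.snd)
        (fun t => ?_) (fun t => Category.comp_id _) fun t m _ h => ?_)
      · rw [← cancel_mono (CohB1.specQuot (IsLocalRing.maximalIdeal R) (n + 1)), Category.assoc, CohB1.specQuotTrans_specQuot]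
        exact t.condition.symm
      · simpa using h
    refine IsPullback.of_bot (v₂₁ := 𝟙 _) (by simpa using h1) ?_ h2
    rw [← cancel_mono (CohB1.specQuot (IsLocalRing.maximalIdeal R) (n + 1)), Category.assoc, Category.assoc, CohB1.specQuotTrans_specQuot,
      hfs (n + 1), hfs, reassoc_of% (hts n)]
  letI : ∀ k, (Xs k).Over (Spec (CommRingCat.of R)) := fun k => ⟨fs k ≫ CohB1.specQuot (IsLocalRing.maximalIdeal R) k⟩
  letI : P.Over (Spec (CommRingCat.of R)) := ⟨q⟩
  haveI : IsProper (P ↘ Spec (CommRingCat.of R)) := ‹IsProper q›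
  have S : Groth.L16.Exist.Adic.IsSys (IsLocalRing.maximalIdeal R) Xs fs ts := Groth.L16.Exist.Adic.isSys_of_cart (IsLocalRing.maximalIdeal R) (fun _ => rfl) hcart
  obtain ⟨Y, ι, e, hι, he, -, -, hcartY⟩ := Groth.L16.Exist.Adic.exists_closed_algebraization (X := P) S
    (fun k => (Js k).subschemeι) (fun _ => inferInstance) (fun k => (hts k).symm) fun k => (hfs k).symm
  haveI := hι
  have hsup : ∀ n, Js n = ι.ker ⊔ PI n := fun n => by
    have h1 : (e n).ker = (PI n).comap ι := by
      rw [Groth.L17.Thick.ker_of_isPullback (hcartY n), ← Scheme.IdealSheafData.comap_comp]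
      rfl
    have h2 : Js n = (e n ≫ ι).ker := by rw [he, Scheme.IdealSheafData.ker_subschemeι]
    refine ext_of_affine_cover W cov fun c => ?_
    rw [h2, ← Scheme.IdealSheafData.map_ker, h1, Scheme.IdealSheafData.ideal_map_of_isAffineHom,
      Groth.L22.Ideals.comap_ideal ι (PI n) (W c) ⟨_, (W c).2.preimage ι⟩ le_rfl, ← Scheme.Hom.app_eq_appLE,
      Ideal.comap_map_of_surjective _ (ι.app_surjective _ (W c).2), ← RingHom.ker_eq_comap_bot,
      Scheme.IdealSheafData.ideal_sup, Pi.sup_apply, Scheme.Hom.ker_apply]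
    exact sup_comm _ _
  refine ⟨ι.ker, ?_, hsup⟩
  refine Groth.L02.RelCartier.flat_of_cover q ι.ker fun z => ?_
  obtain ⟨c, hc⟩ := cov z
  refine ⟨⟨⊤, isAffineOpen_top _⟩, W c, le_top, hc, ?_⟩
  haveI : IsLocallyNoetherian P := LocallyOfFiniteType.isLocallyNoetherian q
  haveI : IsNoetherianRing Γ(P, (W c).1) := IsLocallyNoetherian.component_noetherian (W c)
  set 𝔟 := ι.ker.ideal (W c) with h𝔟
  have hlev : ∀ n, (Js n).ideal (W c) = 𝔟 ⊔ span {piW (glob q x) (W c).1 ^ (n + 1)} := fun n => by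
    rw [hsup n, Scheme.IdealSheafData.ideal_sup, Pi.sup_apply, hPi]
  set p := piW (glob q x) (W c).1 with hp
  have htf : ∀ t : Γ(P, (W c).1) ⧸ 𝔟, Ideal.Quotient.mk 𝔟 p * t = 0 → t = 0 := by
    intro t ht
    have hmem : t ∈ ⨅ i : ℕ, (span {Ideal.Quotient.mk 𝔟 p} ^ i • ⊤ : Submodule (Γ(P, (W c).1) ⧸ 𝔟) (Γ(P, (W c).1) ⧸ 𝔟)) := by
      obtain ⟨b, rfl⟩ := Ideal.Quotient.mk_surjective t
      rw [← map_mul, Ideal.Quotient.eq_zero_iff_mem] at ht
      refine Submodule.mem_iInf _ |>.2 fun n => ?_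
      have h1 : b ∈ (Js n).ideal (W c) ⊔ span {p ^ n} := hflat n c b (by rw [hlev]; exact Submodule.mem_sup_left ht)
      have h2 : (Js n).ideal (W c) ⊔ span {p ^ n} ≤ 𝔟 ⊔ span {p ^ n} := by
        rw [hlev]
        refine sup_le (sup_le le_sup_left (le_sup_of_le_right ?_)) le_sup_right
        rw [Ideal.span_singleton_le_span_singleton]
        exact pow_dvd_pow _ (Nat.le_succ n)
      obtain ⟨k, hk, y, hy, hky⟩ := Submodule.mem_sup.1 (h2 h1)
      obtain ⟨d, rfl⟩ := Ideal.mem_span_singleton'.1 hy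
      rw [← hky, map_add, Ideal.Quotient.eq_zero_iff_mem.2 hk, zero_add, smul_eq_mul, Ideal.mul_top,
        Ideal.span_singleton_pow, Ideal.mem_span_singleton']
      exact ⟨Ideal.Quotient.mk 𝔟 d, by rw [map_mul, map_pow]⟩
    obtain ⟨⟨r, hr⟩, hr'⟩ := (Ideal.mem_iInf_smul_pow_eq_bot_iff _ _).1 hmem
    obtain ⟨d, rfl⟩ := Ideal.mem_span_singleton'.1 hr
    rw [← hr']
    show d * Ideal.Quotient.mk 𝔟 p * t = 0
    rw [mul_assoc, ht, mul_zero]
  have hfl : ((Ideal.Quotient.mk 𝔟).comp ((q.appLE ⊤ (W c).1 le_top).hom.comp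
      (Scheme.ΓSpecIso (CommRingCat.of R)).inv.hom)).Flat := by
    letI := ((Ideal.Quotient.mk 𝔟).comp ((q.appLE ⊤ (W c).1 le_top).hom.comp
      (Scheme.ΓSpecIso (CommRingCat.of R)).inv.hom)).toAlgebra
    show Module.Flat R (Γ(P, (W c).1) ⧸ 𝔟)
    rw [IsDedekindDomain.flat_iff_torsion_eq_bot, eq_bot_iff]
    rintro t ⟨⟨r, hr⟩, hrt⟩
    have hr0 : r ≠ 0 := nonZeroDivisors.ne_zero hr
    obtain ⟨m, w, hw⟩ := IsDiscreteValuationRing.associated_pow_irreducible hr0
      ((IsDiscreteValuationRing.irreducible_iff_uniformizer x).2 hx)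
    have hpm : Ideal.Quotient.mk 𝔟 p ^ m * t = 0 := by
      have h : algebraMap R (Γ(P, (W c).1) ⧸ 𝔟) (x ^ m) * t = 0 := by
        rw [← hw, map_mul, mul_right_comm]
        refine (congrArg (· * _) (?_ : algebraMap R (Γ(P, (W c).1) ⧸ 𝔟) r * t = 0)).trans (zero_mul _)
        rw [← Algebra.smul_def]
        exact hrt
      rw [map_pow] at h
      exact h
    clear hrt hw
    induction m generalizing t with
    | zero => simpa using hpm
    | succ m ih => exact ih (by rw [pow_succ', mul_assoc] at hpm; exact htf _ hpm)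
  have e : (Ideal.Quotient.mk 𝔟).comp (q.appLE ⊤ (W c).1 le_top).hom =
      ((Ideal.Quotient.mk 𝔟).comp ((q.appLE ⊤ (W c).1 le_top).hom.comp
      (Scheme.ΓSpecIso (CommRingCat.of R)).inv.hom)).comp (Scheme.ΓSpecIso (CommRingCat.of R)).hom.hom := by
    refine RingHom.ext fun c => ?_
    simp
  rw [e]
  exact RingHom.Flat.comp (RingHom.Flat.of_bijective (ConcreteCategory.bijective_of_isIso (Scheme.ΓSpecIso (CommRingCat.of R)).hom)) hfl

end Groth.L11.EmbLift
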